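import Cfsg.Agent.RuD.HBound
import Cfsg.Agent.RuRed.RelW
import Cfsg.Agent.RuRed.CtxSz
import Cfsg.Agent.RuE.Letters
import Cfsg.Agent.RuB.Count
import Cfsg.Agent.RuD.IdxFin
import Cfsg.Agent.RuD.Model
import Cfsg.Agent.RuRed.SzRelMore
import Cfsg.Agent.Ru127.Bridge

-- merged: Cfsg.Agent.KFacts.Ru.SzL
section

/-!
# `⟨s, w, f⟩ ≅ Sz(8)` from the eight relations and the order

`Rel8 s w f`: the relations of `RuRels` between `s, w, f`. The group `⟨s, w, f⟩` has order at most `29120`; if the order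
is `29120` there is a parametrisation `R : SzRel.Rel ⟨s, w, f⟩ K8` with `R.u 1 1 = s`, `R.w = w`, `R.d k0 = f` and `RelW R`.
-/

set_option autoImplicit false
set_option maxRecDepth 100000

namespace Cfsg.Agent.KFacts.Ru.SzL

open Subgroup Cfsg.Agent.SporRec.TCUpperCert Cfsg.Agent.RuD Cfsg.Agent.RuB Cfsg.Agent.ThreePrime
open Cfsg.Agent.RuE.Letters (k0 k0_val k0_pow7)

variable {G : Type*} [Group G] {t s w f d y : G}

/-- the eight relations between `s, w, f` -/
structure Rel8 (s w f : G) : Prop where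
  s4 : s * s * s * s = 1
  w2 : w * w = 1
  f7 : f * f * f * f * f * f * f = 1
  wf : w * f * w * f = 1
  ws : s⁻¹ * s⁻¹ * w * s * w * s⁻¹ * w = 1
  h1 : f⁻¹ * f⁻¹ * f⁻¹ * s⁻¹ * f * f * s⁻¹ * f * s⁻¹ = 1
  h2 : f⁻¹ * s⁻¹ * s⁻¹ * f * s⁻¹ * f⁻¹ * s⁻¹ * s⁻¹ * f * s = 1
  h3 : f⁻¹ * s⁻¹ * f * s⁻¹ * s⁻¹ * f⁻¹ * s * f * s⁻¹ * s⁻¹ = 1

theorem rel8_of (h : Rels.RuRels t s w f d y) : Rel8 s w f :=
  ⟨h.s4, h.w2, h.f7, h.wf, h.ws, h.h1, h.h2, h.h3⟩

theorem index_B (h : Rel8 s w f) :
    (zpowers f).relIndex (closure {s, f}) ≤ 64 ∧ (zpowers f).relIndex (closure {s, f}) ≠ 0 := by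
  obtain ⟨h0, h1, h2, h3, h4, h5, h6, h7⟩ := h
  refine relIndex_le_of_valid [s, s⁻¹, f, f⁻¹] TCB.inv TCB.lab TCB.fxl TCB.rels TCB.valid TCB.tt_ok ?_ ?_ _ ?_ _ ?_
  · intro a ha
    change a < 4 at ha
    interval_cases a
    · exact mul_inv_cancel s
    · exact inv_mul_cancel s
    · exact mul_inv_cancel f
    · exact inv_mul_cancel f
  · simp only [TCB.rels, List.forall_mem_cons, List.not_mem_nil, false_imp_iff, implies_true, and_true, wprod, lv,
      List.map_cons, List.map_nil, List.prod_cons, List.prod_nil, mul_one, List.getD_cons_zero, List.getD_cons_succ]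
    simp only [mul_assoc] at *
    exact ⟨h0, h2, h5, h6, h7⟩
  · intro a ha
    simp only [TCB.fxl, List.mem_cons, List.not_mem_nil, or_false] at ha
    subst ha
    exact mem_zpowers f
  · intro x hx
    rcases hx with rfl | rfl
    · exact ⟨0, by norm_num, rfl⟩
    · exact ⟨2, by norm_num, rfl⟩

theorem index_L (h : Rel8 s w f) :
    (closure {s, f}).relIndex (closure {s, w, f}) ≤ 65 ∧ (closure {s, f}).relIndex (closure {s, w, f}) ≠ 0 := by
  obtain ⟨h0, h1, h2, h3, h4, h5, h6, h7⟩ := h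
  refine relIndex_le_of_valid [s, s⁻¹, w, f, f⁻¹] TCL.inv TCL.lab TCL.fxl TCL.rels TCL.valid TCL.tt_ok ?_ ?_ _ ?_ _ ?_
  · intro a ha
    change a < 5 at ha
    interval_cases a
    · exact mul_inv_cancel s
    · exact inv_mul_cancel s
    · exact h1
    · exact mul_inv_cancel f
    · exact inv_mul_cancel f
  · simp only [TCL.rels, List.forall_mem_cons, List.not_mem_nil, false_imp_iff, implies_true, and_true, wprod, lv,
      List.map_cons, List.map_nil, List.prod_cons, List.prod_nil, mul_one, List.getD_cons_zero, List.getD_cons_succ]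
    simp only [mul_assoc] at *
    exact ⟨h0, h1, h2, h3, h4, h5, h6, h7⟩
  · intro a ha
    simp only [TCL.fxl, List.mem_cons, List.not_mem_nil, or_false] at ha
    rcases ha with rfl | rfl
    · exact subset_closure (by simp [lv])
    · exact subset_closure (by simp [lv])
  · intro x hx
    rcases hx with rfl | rfl | rfl
    · exact ⟨0, by norm_num, rfl⟩
    · exact ⟨2, by norm_num, rfl⟩
    · exact ⟨3, by norm_num, rfl⟩

theorem card_f (h : Rel8 s w f) : Nat.card (zpowers f) ≤ 7 ∧ Nat.card (zpowers f) ≠ 0 := by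
  have h7 : f ^ 7 = 1 := by
    rw [← h.f7]; simp only [pow_succ, pow_zero, one_mul]
  have hd : orderOf f ∣ 7 := orderOf_dvd_of_pow_eq_one h7
  rw [Nat.card_zpowers]
  refine ⟨Nat.le_of_dvd (by norm_num) hd, fun h0 => ?_⟩
  rw [h0] at hd
  omega

/-- the bound -/
theorem card_le (h : Rel8 s w f) :
    Nat.card (closure ({s, w, f} : Set G)) ≤ 29120 ∧ Nat.card (closure ({s, w, f} : Set G)) ≠ 0 := by
  have hB := index_B h
  have hL := index_L h
  have hf := card_f h
  have l1 : zpowers f ≤ closure {s, f} := by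
    rw [zpowers_le]; exact subset_closure (by simp)
  have l2 : closure {s, f} ≤ closure {s, w, f} := closure_mono (by
    intro x hx; rcases hx with rfl | rfl <;> simp)
  have e1 := relIndex_mul_relIndex _ _ _ (bot_le : ⊥ ≤ zpowers f) l1
  have e2 := relIndex_mul_relIndex _ _ _ (bot_le : ⊥ ≤ closure {s, f}) l2
  rw [relIndex_bot_left, relIndex_bot_left] at e1 e2
  rw [← e2, ← e1]
  constructor
  · calc _ ≤ 7 * 64 * 65 := Nat.mul_le_mul (Nat.mul_le_mul hf.1 hB.1) hL.1
      _ = 29120 := by norm_num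
  · exact mul_ne_zero (mul_ne_zero hf.2 hB.2) hL.2

/-! ### the letters in `Sz(8)` -/

section sz

variable {J : Type*} [Group J] (R : SzRel.Rel J K8)

theorem umul (a b c e : K8) : R.u a b * R.u c e = R.u (a + c) (b + e + a * c ^ 4) := by
  have h := R.u_mul a b c e
  rw [K8.theta_eq R.θ R.sq] at h
  exact h

theorem dconj (k : K8ˣ) (a b : K8) : R.d k * R.u a b * (R.d k)⁻¹ = R.u (a * (k : K8) ^ 5) (b * (k : K8) ^ 4) := by
  have h : ∀ x : K8, x ≠ 0 → x ^ 2 * (x ^ 4)⁻¹ = x ^ 5 := by decide +kernel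
  rw [mul_inv_eq_iff_eq_mul, R.d_mul_u, K8.theta_eq R.θ R.sq, mul_assoc, h _ k.ne_zero]

theorem uinv : (R.u 1 1)⁻¹ = R.u 1 0 := by
  rw [inv_eq_iff_mul_eq_one, umul, ← R.u_zero]
  congr 1 <;> decide +kernel

theorem u_f (a b : K8) : R.u a b * R.d k0 = R.d k0 * R.u (K8.al * a) (K8.al ^ 5 * b) := by
  have h := dconj R k0 (K8.al * a) (K8.al ^ 5 * b)
  rw [mul_inv_eq_iff_eq_mul, k0_val] at h
  rw [h]
  have h1 : ∀ a : K8, K8.al * a * (K8.al ^ 4) ^ 5 = a := by decide +kernel
  have h2 : ∀ a : K8, K8.al ^ 5 * a * (K8.al ^ 4) ^ 4 = a := by decide +kernel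
  rw [h1, h2]

theorem f_u (a b : K8) : (R.d k0)⁻¹ * R.u a b * R.d k0 = R.u (K8.al * a) (K8.al ^ 5 * b) := by
  rw [mul_assoc, u_f, inv_mul_cancel_left]

theorem u_eq_one {a b : K8} (ha : a = 0) (hb : b = 0) : R.u a b = 1 := by
  rw [ha, hb, R.u_zero]

theorem dmul7 : R.d k0 * R.d k0 * R.d k0 * R.d k0 * R.d k0 * R.d k0 * R.d k0 = 1 := by
  have h : k0 * k0 * k0 * k0 * k0 * k0 * k0 = 1 := by
    rw [← k0_pow7, pow_succ, pow_succ, pow_succ, pow_succ, pow_succ, pow_succ, pow_one]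
  rw [R.d_mul, R.d_mul, R.d_mul, R.d_mul, R.d_mul, R.d_mul, h]
  exact R.d_one

theorem sq1 : R.u 1 0 * R.u 1 0 = R.u 0 1 := by
  rw [umul]
  congr 1 <;> decide +kernel

theorem sq2 : R.u 1 1 * R.u 1 1 = R.u 0 1 := by
  rw [umul]
  congr 1 <;> decide +kernel

theorem zsq : R.u 0 1 * R.u 0 1 = 1 := by
  rw [umul]
  exact u_eq_one R (by decide +kernel) (by decide +kernel)

/-- the relations hold in `Sz(8)` -/
theorem rel8 (hw : RuRed.RelW R) : Rel8 (R.u 1 1) R.w (R.d k0) where
  s4 := by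
    rw [sq2, mul_assoc, sq2, zsq]
  w2 := R.w_mul_w
  f7 := dmul7 R
  wf := by
    have h := R.w_mul_d k0
    rw [← R.d_inv] at h
    rw [h]
    calc (R.d k0)⁻¹ * R.w * R.w * R.d k0 = (R.d k0)⁻¹ * (R.w * R.w) * R.d k0 := by group
      _ = 1 := by rw [R.w_mul_w]; group
  ws := by
    have h1 : R.w * (R.u 1 0)⁻¹ * R.w * R.u 1 0 = R.u 0 1 * R.w := hw
    rw [← uinv, inv_inv] at h1
    calc (R.u 1 1)⁻¹ * (R.u 1 1)⁻¹ * R.w * R.u 1 1 * R.w * (R.u 1 1)⁻¹ * R.w
        = ((R.u 1 1)⁻¹ * (R.u 1 1)⁻¹) * (R.w * R.u 1 1 * R.w * (R.u 1 1)⁻¹) * R.w := by group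
      _ = (R.u 0 1 * R.u 0 1) * (R.w * R.w) := by rw [h1, uinv, sq1]; group
      _ = 1 := by rw [zsq, R.w_mul_w, one_mul]
  h1 := by
    rw [uinv]
    have h1 : R.u 1 0 * R.d k0 = R.d k0 * R.u (K8.al * 1) (K8.al ^ 5 * 0) := u_f R _ _
    calc (R.d k0)⁻¹ * (R.d k0)⁻¹ * (R.d k0)⁻¹ * R.u 1 0 * R.d k0 * R.d k0 * R.u 1 0 * R.d k0 * R.u 1 0
        = (R.d k0)⁻¹ * (R.d k0)⁻¹ * (R.d k0)⁻¹ * (R.u 1 0 * R.d k0) * R.d k0 * (R.u 1 0 * R.d k0) * R.u 1 0 := by group
      _ = (R.d k0)⁻¹ * (R.d k0)⁻¹ * (R.u (K8.al * 1) (K8.al ^ 5 * 0) * R.d k0) * R.d k0 *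
          R.u (K8.al * 1) (K8.al ^ 5 * 0) * R.u 1 0 := by
          rw [h1]; group
      _ = (R.d k0)⁻¹ * (R.u (K8.al * (K8.al * 1)) (K8.al ^ 5 * (K8.al ^ 5 * 0)) * R.d k0) *
          R.u (K8.al * 1) (K8.al ^ 5 * 0) * R.u 1 0 := by rw [u_f]; group
      _ = R.u (K8.al * (K8.al * (K8.al * 1))) (K8.al ^ 5 * (K8.al ^ 5 * (K8.al ^ 5 * 0))) *
          R.u (K8.al * 1) (K8.al ^ 5 * 0) * R.u 1 0 := by rw [u_f]; group
      _ = 1 := by
          rw [umul, umul]
          exact u_eq_one R (by decide +kernel) (by decide +kernel)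
  h2 := by
    rw [uinv]
    calc (R.d k0)⁻¹ * R.u 1 0 * R.u 1 0 * R.d k0 * R.u 1 0 * (R.d k0)⁻¹ * R.u 1 0 * R.u 1 0 * R.d k0 * R.u 1 1
        = ((R.d k0)⁻¹ * (R.u 1 0 * R.u 1 0) * R.d k0) * R.u 1 0 * ((R.d k0)⁻¹ * (R.u 1 0 * R.u 1 0) * R.d k0) *
          R.u 1 1 := by group
      _ = 1 := by
          rw [umul, f_u, umul, umul, umul]
          exact u_eq_one R (by decide +kernel) (by decide +kernel)
  h3 := by
    rw [uinv]
    calc (R.d k0)⁻¹ * R.u 1 0 * R.d k0 * R.u 1 0 * R.u 1 0 * (R.d k0)⁻¹ * R.u 1 1 * R.d k0 * R.u 1 0 * R.u 1 0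
        = ((R.d k0)⁻¹ * R.u 1 0 * R.d k0) * R.u 1 0 * R.u 1 0 * ((R.d k0)⁻¹ * R.u 1 1 * R.d k0) * R.u 1 0 *
          R.u 1 0 := by group
      _ = 1 := by
          rw [f_u, f_u, umul, umul, umul, umul, umul]
          exact u_eq_one R (by decide +kernel) (by decide +kernel)

theorem k0_gen : ∀ x : K8, x ≠ 0 → ∃ n : Fin 7, (K8.al ^ 4) ^ (n : ℕ) = x := by decide +kernel

theorem d_pow (k : K8ˣ) (n : ℕ) : R.d k ^ n = R.d (k ^ n) := by
  induction n with
  | zero => rw [pow_zero, pow_zero, R.d_one]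
  | succ n ih => rw [pow_succ, ih, R.d_mul, pow_succ]

theorem d_mem (k : K8ˣ) : R.d k ∈ closure ({R.u 1 1, R.w, R.d k0} : Set J) := by
  obtain ⟨n, hn⟩ := k0_gen (k : K8) k.ne_zero
  have h : k = k0 ^ (n : ℕ) := by
    apply Units.ext
    rw [Units.val_pow_eq_pow_val, k0_val, hn]
  rw [h, ← d_pow]
  exact pow_mem (subset_closure (by simp)) _

theorem z_mem (b : K8) : R.u 0 b ∈ closure ({R.u 1 1, R.w, R.d k0} : Set J) := by
  by_cases hb : b = 0
  · rw [hb, R.u_zero]; exact one_mem _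
  · have hs : R.u 0 1 ∈ closure ({R.u 1 1, R.w, R.d k0} : Set J) := by
      rw [← sq2]
      exact mul_mem (subset_closure (by simp)) (subset_closure (by simp))
    have h2 : b ^ 2 ≠ 0 := pow_ne_zero _ hb
    have h := mul_mem (mul_mem (d_mem R (Units.mk0 (b ^ 2) h2)) hs) (inv_mem (d_mem R (Units.mk0 (b ^ 2) h2)))
    rw [dconj, Units.val_mk0] at h
    have e1 : ∀ b : K8, (0 : K8) * (b ^ 2) ^ 5 = 0 := by decide +kernel
    have e2 : ∀ b : K8, b ≠ 0 → (1 : K8) * (b ^ 2) ^ 4 = b := by decide +kernel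
    rw [e1, e2 b hb] at h
    exact h

theorem u_mem (a b : K8) : R.u a b ∈ closure ({R.u 1 1, R.w, R.d k0} : Set J) := by
  by_cases ha : a = 0
  · rw [ha]; exact z_mem R b
  · have h2 : a ^ 3 ≠ 0 := pow_ne_zero _ ha
    have hs : R.u 1 1 ∈ closure ({R.u 1 1, R.w, R.d k0} : Set J) := subset_closure (by simp)
    have h := mul_mem (mul_mem (d_mem R (Units.mk0 (a ^ 3) h2)) hs) (inv_mem (d_mem R (Units.mk0 (a ^ 3) h2)))
    rw [dconj, Units.val_mk0] at h
    have e1 : ∀ b : K8, b ≠ 0 → (1 : K8) * (b ^ 3) ^ 5 = b := by decide +kernel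
    rw [e1 a ha] at h
    have h3 := mul_mem h (z_mem R (1 * (a ^ 3) ^ 4 + b))
    rw [umul] at h3
    have e3 : ∀ a b : K8, 1 * (a ^ 3) ^ 4 + (1 * (a ^ 3) ^ 4 + b) + a * 0 ^ 4 = b := by decide +kernel
    rw [e3, add_zero] at h3
    exact h3

theorem closure_eq_top : closure ({R.u 1 1, R.w, R.d k0} : Set J) = ⊤ := by
  rw [eq_top_iff]
  intro g _
  have hw : R.w ∈ closure ({R.u 1 1, R.w, R.d k0} : Set J) := subset_closure (by simp)
  rcases R.bruhat g with ⟨a, b, k, h⟩ | ⟨a, b, c, e, k, h⟩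
  · rw [h]
    exact mul_mem (u_mem R a b) (d_mem R k)
  · rw [h]
    exact mul_mem (mul_mem (u_mem R a b) hw) (mul_mem (u_mem R c e) (d_mem R k))

end sz

/-! ### the isomorphism -/

/-- a closed group of pairs that is not larger than the two projections is the graph of an isomorphism -/
theorem exists_iso {G J : Type*} [Group G] [Group J] (A : Set (G × J)) (n : ℕ) (hJ : Nat.card J = n)
    (hG : Nat.card (closure (Prod.fst '' A)) = n) (hm : closure (Prod.snd '' A) = ⊤)
    (hfin : Nat.card (closure A) ≠ 0) (hcard : Nat.card (closure A) ≤ n) :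
    ∃ φ : closure (Prod.fst '' A) ≃* J, ∀ (x : G × J) (hx : x ∈ A),
      φ ⟨x.1, subset_closure ⟨x, hx, rfl⟩⟩ = x.2 := by
  set K : Subgroup (G × J) := closure A with hK
  have hKf : Finite K := Nat.finite_of_card_ne_zero hfin
  let p2 : K →* J := (MonoidHom.snd G J).comp K.subtype
  let p1 : K →* G := (MonoidHom.fst G J).comp K.subtype
  have hr2 : p2.range = ⊤ := by
    rw [MonoidHom.range_comp, Subgroup.range_subtype, hK, MonoidHom.map_closure, ← hm]
    rfl
  have hr1 : p1.range = closure (Prod.fst '' A) := by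
    rw [MonoidHom.range_comp, Subgroup.range_subtype, hK, MonoidHom.map_closure]
    rfl
  have hs2 : Function.Surjective p2 := MonoidHom.range_eq_top.1 hr2
  have hb2 : Function.Bijective p2 := by
    rw [Nat.bijective_iff_surjective_and_card]
    exact ⟨hs2, le_antisymm (hJ ▸ hcard) (Nat.card_le_card_of_surjective _ hs2)⟩
  have hKn : Nat.card K = n := by rw [Nat.card_congr (Equiv.ofBijective p2 hb2), hJ]
  let e2 : K ≃* J := MulEquiv.ofBijective p2 hb2
  have hb1 : Function.Bijective p1.rangeRestrict := by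
    rw [Nat.bijective_iff_surjective_and_card]
    refine ⟨p1.rangeRestrict_surjective, ?_⟩
    rw [hKn, hr1, hG]
  let e1 : K ≃* p1.range := MulEquiv.ofBijective p1.rangeRestrict hb1
  refine ⟨(MulEquiv.subgroupCongr hr1).symm.trans (e1.symm.trans e2), fun x hx => ?_⟩
  have hmem : x ∈ K := subset_closure hx
  have h1 : e1 ⟨x, hmem⟩ = (MulEquiv.subgroupCongr hr1).symm ⟨x.1, subset_closure ⟨x, hx, rfl⟩⟩ := Subtype.ext rfl
  rw [MulEquiv.trans_apply, MulEquiv.trans_apply, ← h1, MulEquiv.symm_apply_apply]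
  rfl

/-- the parametrisation of `Sz(8)` over `K8` with the relation of `w` -/
theorem exists_model : ∃ (J : Type) (_ : Group J) (R : SzRel.Rel J K8), RuRed.RelW R := by
  have hc : Fintype.card K8 = 2 ^ (2 * 1 + 1) := by rw [K8.card]; norm_num
  exact ⟨_, _, _, RuRed.RelW.ofGood (Cfsg.Agent.LieRecognition.SzMatrix.good hc)⟩

theorem prod_rel8 {M : Type*} [Group M] {s' w' f' : M} (h : Rel8 s w f) (h' : Rel8 s' w' f') :
    Rel8 ((s, s') : G × M) (w, w') (f, f') := by
  obtain ⟨h0, h1, h2, h3, h4, h5, h6, h7⟩ := h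
  obtain ⟨k0, k1, k2, k3, k4, k5, k6, k7⟩ := h'
  exact ⟨Prod.ext h0 k0, Prod.ext h1 k1, Prod.ext h2 k2, Prod.ext h3 k3, Prod.ext h4 k4, Prod.ext h5 k5,
    Prod.ext h6 k6, Prod.ext h7 k7⟩

/-- **the parametrisation of `⟨s, w, f⟩`** -/
theorem exists_rel (h : Rel8 s w f) (hc : Nat.card (closure ({s, w, f} : Set G)) = 29120) :
    ∃ R : SzRel.Rel ↥(closure ({s, w, f} : Set G)) K8, (R.u 1 1 : G) = s ∧ (R.w : G) = w ∧ (R.d k0 : G) = f ∧
      RuRed.RelW R := by
  obtain ⟨J, iJ, R, hR⟩ := exists_model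
  have h8 := rel8 R hR
  have hb := card_le (prod_rel8 h h8)
  have e1 : Prod.fst '' ({(s, R.u 1 1), (w, R.w), (f, R.d k0)} : Set (G × J)) = {s, w, f} := by
    simp only [Set.image_insert_eq, Set.image_singleton]
  have e2 : Prod.snd '' ({(s, R.u 1 1), (w, R.w), (f, R.d k0)} : Set (G × J)) = {R.u 1 1, R.w, R.d k0} := by
    simp only [Set.image_insert_eq, Set.image_singleton]
  obtain ⟨φ, hφ⟩ := exists_iso ({(s, R.u 1 1), (w, R.w), (f, R.d k0)} : Set (G × J)) 29120 (Count.card_J R)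
    (by rw [e1]; exact hc) (by rw [e2]; exact closure_eq_top R) hb.2 hb.1
  let ψ : closure ({s, w, f} : Set G) ≃* J := (MulEquiv.subgroupCongr (by rw [e1])).trans φ
  have hs : ψ ⟨s, subset_closure (by simp)⟩ = R.u 1 1 := hφ (s, R.u 1 1) (by simp)
  have hw : ψ ⟨w, subset_closure (by simp)⟩ = R.w := hφ (w, R.w) (by simp)
  have hf : ψ ⟨f, subset_closure (by simp)⟩ = R.d k0 := hφ (f, R.d k0) (by simp)
  refine ⟨R.map ψ.symm, ?_, ?_, ?_, hR.map ψ.symm⟩
  · show ((ψ.symm (R.u 1 1) : closure ({s, w, f} : Set G)) : G) = s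
    rw [← hs, MulEquiv.symm_apply_apply]
  · show ((ψ.symm R.w : closure ({s, w, f} : Set G)) : G) = w
    rw [← hw, MulEquiv.symm_apply_apply]
  · show ((ψ.symm (R.d k0) : closure ({s, w, f} : Set G)) : G) = f
    rw [← hf, MulEquiv.symm_apply_apply]

end Cfsg.Agent.KFacts.Ru.SzL

end

-- merged: Cfsg.Agent.KFacts.Ru.FixT
section

/-!
# The fixed points of `t` on the 417600 cosets

The network of `t` fixes at most 456 of the points `0, …, 417599`.
-/

set_option autoImplicit false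
set_option maxRecDepth 100000
set_option exponentiation.threshold 1000000
set_option Elab.async false

namespace Cfsg.Agent.KFacts.Ru.FixT

open Cfsg.Agent.Lib.PermNet Cfsg.Agent.RuD.IdxNet Cfsg.Agent.RuD.IdxLib Cfsg.Agent.RuD.IdxDef

/-- the mask of the numbers with bit `k` set (only used through its values) -/
noncomputable def pl (k : ℕ) : ℕ :=
  Nat.mul (Nat.pow 2 (Nat.pow 2 k)) (Nat.div (Nat.sub (Nat.pow 2 524288) 1) (Nat.add (Nat.pow 2 (Nat.pow 2 k)) 1))

/-- points moved by the network, as seen by the masks -/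
noncomputable def diff (L : Net) (ks : List ℕ) : ℕ :=
  List.rec (motive := fun _ => ℕ) 0 (fun k _ ih => seq (pl k) fun P => Nat.lor (Nat.xor (L.app P) P) ih) ks

theorem diff_spec {N : ℕ} {L : Net} (hL : L.ok N = true) (ks : List ℕ) (i : ℕ)
    (h : (diff L ks).testBit i = true) : L.perm i ≠ i := by
  induction ks with
  | nil =>
    have : (0 : ℕ).testBit i = true := h
    simp at this
  | cons k ks ih =>
    have e0 : diff L (k :: ks) = seq (pl k) (fun P => Nat.lor (Nat.xor (L.app P) P) (diff L ks)) := rfl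
    have e : diff L (k :: ks) = ((L.app (pl k)) ^^^ (pl k)) ||| diff L ks := by
      rw [e0, seq_eq]; rfl
    rw [e, Nat.testBit_or, Bool.or_eq_true] at h
    rcases h with h | h
    · intro hf
      rw [Nat.testBit_xor, testBit_app hL, hf, Bool.xor_self] at h
      exact absurd h (by simp)
    · exact ih h

/-- the mask of the interval `[a, a + b)` -/
noncomputable def iv (a b : ℕ) : ℕ := Nat.shiftLeft (Nat.sub (Nat.pow 2 b) 1) a

theorem iv_spec {a b i : ℕ} (h : (iv a b).testBit i = true) : a ≤ i ∧ i < a + b := by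
  have h' : ((2 ^ b - 1) <<< a).testBit i = true := h
  rw [Nat.testBit_shiftLeft, Bool.and_eq_true, decide_eq_true_eq, Nat.testBit_two_pow_sub_one,
    decide_eq_true_eq] at h'
  omega

noncomputable def fixM : ℕ := Nat.lor (iv 412160 1) (Nat.lor (iv 412665 7) (iv 414016 448))

theorem chk : full (Nat.lor (diff netT [0, 1, 2, 3, 4, 5, 6, 7, 8, 9, 10, 11, 12, 13, 14, 15, 16, 17, 18]) fixM)
    = true := by decide +kernel

/-- the fixed points -/
def fixS : Finset ℕ := Finset.Ico 412160 412161 ∪ (Finset.Ico 412665 412672 ∪ Finset.Ico 414016 414464)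

theorem card_fixS : fixS.card ≤ 456 := by
  refine (Finset.card_union_le _ _).trans ?_
  have h := Finset.card_union_le (Finset.Ico 412665 412672) (Finset.Ico 414016 414464)
  rw [Nat.card_Ico, Nat.card_Ico] at h
  rw [Nat.card_Ico]
  omega

theorem fix_mem {i : ℕ} (hi : i < 417600) (hf : netT.perm i = i) : i ∈ fixS := by
  have h := RuD.IdxFin.full_spec' chk i hi
  have e : ∀ a b : ℕ, Nat.lor a b = a ||| b := fun _ _ => rfl
  rw [e, Nat.testBit_or, Bool.or_eq_true] at h
  rcases h with h | h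
  · exact absurd hf (diff_spec (RuD.IdxFin.ok_net .t) _ i h)
  · unfold fixM at h
    rw [e, e, Nat.testBit_or, Bool.or_eq_true, Nat.testBit_or, Bool.or_eq_true] at h
    unfold fixS
    rw [Finset.mem_union, Finset.mem_union, Finset.mem_Ico, Finset.mem_Ico, Finset.mem_Ico]
    rcases h with h | h | h
    · left; have := iv_spec h; omega
    · right; left; have := iv_spec h; omega
    · right; right; have := iv_spec h; omega

end Cfsg.Agent.KFacts.Ru.FixT

end

-- merged: Cfsg.Agent.KFacts.Ru.Lets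
section

/-!
# Letters of the Rudvalis group

`Lets K t s w f d y`: the letters satisfy the relations, generate `K`, `|K| = 145926144000`, and the growth relations hold.
-/

set_option autoImplicit false
set_option maxRecDepth 100000

namespace Cfsg.Agent.KFacts.Ru

open Subgroup Cfsg.Agent.SporRec.TCUpperCert Cfsg.Agent.RuD Cfsg.Agent.RuD.Rels

/-- letters of the Rudvalis group -/
structure Lets {K : Type*} [Group K] (t s w f d y : K) : Prop where
  rel : RuRelsX t s w f d y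
  gen : closure ({t, s, w, f, d, y} : Set K) = ⊤
  card : Nat.card K = 145926144000
  ne : t ≠ 1
  /-- `t` and `d t d⁻¹` commute -/
  tt : t * (d * t * d⁻¹) = d * t * d⁻¹ * t
  /-- `x = y z(α) y` centralises `z 1, z α, z α²` -/
  g1 : (y * (f * f * f * f * (s * s) * (f * f * f * f)⁻¹) * y) * (s * s) =
    (s * s) * (y * (f * f * f * f * (s * s) * (f * f * f * f)⁻¹) * y)
  g2 : (y * (f * f * f * f * (s * s) * (f * f * f * f)⁻¹) * y) * (f * f * f * f * (s * s) * (f * f * f * f)⁻¹) =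
    (f * f * f * f * (s * s) * (f * f * f * f)⁻¹) * (y * (f * f * f * f * (s * s) * (f * f * f * f)⁻¹) * y)
  g3 : (y * (f * f * f * f * (s * s) * (f * f * f * f)⁻¹) * y) * (f * (s * s) * f⁻¹) =
    (f * (s * s) * f⁻¹) * (y * (f * f * f * f * (s * s) * (f * f * f * f)⁻¹) * y)
  /-- `x t x⁻¹ = t z(1 + α)` -/
  g4 : (y * (f * f * f * f * (s * s) * (f * f * f * f)⁻¹) * y) * t =
    t * (s * s) * (f * f * f * f * (s * s) * (f * f * f * f)⁻¹) *
      (y * (f * f * f * f * (s * s) * (f * f * f * f)⁻¹) * y)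
  /-- `x t₂ x⁻¹ = t₂ z(α + α²)` -/
  g5 : (y * (f * f * f * f * (s * s) * (f * f * f * f)⁻¹) * y) * (d * t * d⁻¹) =
    (d * t * d⁻¹) * (f * f * f * f * (s * s) * (f * f * f * f)⁻¹) * (f * (s * s) * f⁻¹) *
      (y * (f * f * f * f * (s * s) * (f * f * f * f)⁻¹) * y)

theorem relsX_map {K M : Type*} [Group K] [Group M] (φ : K →* M) {t s w f d y : K} (h : RuRelsX t s w f d y) :
    RuRelsX (φ t) (φ s) (φ w) (φ f) (φ d) (φ y) := by
  obtain ⟨⟨h0, h1, h2, h3, h4, h5, h6, h7, h8, h9, h10, h11, h12, h13, h14, h15, h16, h17, h18, h19, h20, h21,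
    h22⟩, h23⟩ := h
  exact ⟨⟨by simpa only [map_mul, map_inv, map_one] using congrArg φ h0,
    by simpa only [map_mul, map_inv, map_one] using congrArg φ h1,
    by simpa only [map_mul, map_inv, map_one] using congrArg φ h2,
    by simpa only [map_mul, map_inv, map_one] using congrArg φ h3,
    by simpa only [map_mul, map_inv, map_one] using congrArg φ h4,
    by simpa only [map_mul, map_inv, map_one] using congrArg φ h5,
    by simpa only [map_mul, map_inv, map_one] using congrArg φ h6,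
    by simpa only [map_mul, map_inv, map_one] using congrArg φ h7,
    by simpa only [map_mul, map_inv, map_one] using congrArg φ h8,
    by simpa only [map_mul, map_inv, map_one] using congrArg φ h9,
    by simpa only [map_mul, map_inv, map_one] using congrArg φ h10,
    by simpa only [map_mul, map_inv, map_one] using congrArg φ h11,
    by simpa only [map_mul, map_inv, map_one] using congrArg φ h12,
    by simpa only [map_mul, map_inv, map_one] using congrArg φ h13,
    by simpa only [map_mul, map_inv, map_one] using congrArg φ h14,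
    by simpa only [map_mul, map_inv, map_one] using congrArg φ h15,
    by simpa only [map_mul, map_inv, map_one] using congrArg φ h16,
    by simpa only [map_mul, map_inv, map_one] using congrArg φ h17,
    by simpa only [map_mul, map_inv, map_one] using congrArg φ h18,
    by simpa only [map_mul, map_inv, map_one] using congrArg φ h19,
    by simpa only [map_mul, map_inv, map_one] using congrArg φ h20,
    by simpa only [map_mul, map_inv, map_one] using congrArg φ h21,
    by simpa only [map_mul, map_inv, map_one] using congrArg φ h22⟩,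
    by simpa only [map_mul, map_inv, map_one] using congrArg φ h23⟩

/-- transport along an isomorphism -/
theorem Lets.map {K M : Type*} [Group K] [Group M] (e : K ≃* M) {t s w f d y : K} (h : Lets t s w f d y) :
    Lets (e t) (e s) (e w) (e f) (e d) (e y) where
  rel := relsX_map e.toMonoidHom h.rel
  gen := by
    have h1 := congrArg (Subgroup.map e.toMonoidHom) h.gen
    rw [MonoidHom.map_closure, Subgroup.map_top_of_surjective _ e.surjective] at h1
    simp only [Set.image_insert_eq, Set.image_singleton] at h1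
    exact h1
  card := by rw [← h.card]; exact (Nat.card_congr e.toEquiv).symm
  ne := fun h1 => h.ne (e.injective (by rw [h1, map_one]))
  tt := by simpa only [map_mul, map_inv, map_one] using congrArg e h.tt
  g1 := by simpa only [map_mul, map_inv, map_one] using congrArg e h.g1
  g2 := by simpa only [map_mul, map_inv, map_one] using congrArg e h.g2
  g3 := by simpa only [map_mul, map_inv, map_one] using congrArg e h.g3
  g4 := by simpa only [map_mul, map_inv, map_one] using congrArg e h.g4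
  g5 := by simpa only [map_mul, map_inv, map_one] using congrArg e h.g5

/-! ### the model -/

section model

open Cfsg.Agent.RuD.Letters Cfsg.Agent.SporadicB Cfsg.Agent.SporRec.R3.Kernel

noncomputable def chkEq (u v : List ℕ) : Bool :=
  allL (fun b => Nat.beq (evalK u b) (evalK v b)) [0, 29, 580, 577]

theorem eq_of_chkEq {u v : List ℕ} (h : chkEq u v = true) : wprod ml u = (wprod ml v : RuOrder.H) := by
  have h1 := (allL_iff _ _).1 h
  apply eq_of_base
  intro b hb
  rw [evalK_eq, evalK_eq]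
  simp only [List.mem_cons, List.not_mem_nil, or_false] at hb
  rcases hb with rfl | rfl | rfl | rfl
  · exact Nat.eq_of_beq_eq_true (h1 0 (by simp))
  · exact Nat.eq_of_beq_eq_true (h1 29 (by simp))
  · exact Nat.eq_of_beq_eq_true (h1 580 (by simp))
  · exact Nat.eq_of_beq_eq_true (h1 577 (by simp))

theorem chk_tt : chkEq [0, 4, 0, 8] [4, 0, 8, 0] = true := by decide +kernel
theorem chk_g1 : chkEq [5, 3, 3, 3, 3, 1, 1, 7, 7, 7, 7, 5, 1, 1] [1, 1, 5, 3, 3, 3, 3, 1, 1, 7, 7, 7, 7, 5] = true := by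
  decide +kernel
theorem chk_g2 : chkEq [5, 3, 3, 3, 3, 1, 1, 7, 7, 7, 7, 5, 3, 3, 3, 3, 1, 1, 7, 7, 7, 7]
    [3, 3, 3, 3, 1, 1, 7, 7, 7, 7, 5, 3, 3, 3, 3, 1, 1, 7, 7, 7, 7, 5] = true := by
  decide +kernel
theorem chk_g3 : chkEq [5, 3, 3, 3, 3, 1, 1, 7, 7, 7, 7, 5, 3, 1, 1, 7]
    [3, 1, 1, 7, 5, 3, 3, 3, 3, 1, 1, 7, 7, 7, 7, 5] = true := by
  decide +kernel
theorem chk_g4 : chkEq [5, 3, 3, 3, 3, 1, 1, 7, 7, 7, 7, 5, 0]
    [0, 1, 1, 3, 3, 3, 3, 1, 1, 7, 7, 7, 7, 5, 3, 3, 3, 3, 1, 1, 7, 7, 7, 7, 5] = true := by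
  decide +kernel
theorem chk_g5 : chkEq [5, 3, 3, 3, 3, 1, 1, 7, 7, 7, 7, 5, 4, 0, 8]
    [4, 0, 8, 3, 3, 3, 3, 1, 1, 7, 7, 7, 7, 3, 1, 1, 7, 5, 3, 3, 3, 3, 1, 1, 7, 7, 7, 7, 5] = true := by
  decide +kernel

macro "wordeq " h:term : tactic => `(tactic| (
  have h0 := eq_of_chkEq $h
  simp only [wprod, lv, ml, List.map_cons, List.map_nil, List.prod_cons, List.prod_nil, mul_one,
    List.getD_cons_zero, List.getD_cons_succ] at h0
  simp only [mul_inv_rev, mul_assoc]
  exact h0))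

theorem chk_ne : Nat.beq (evalK [0] 0) 0 = false := by decide +kernel

theorem T_ne : (T : RuOrder.H) ≠ 1 := by
  intro h
  have h1 := evalK_eq [0] RuOrder.b1
  have h2 : (wprod ml [0] : RuOrder.H) = T := mul_one T
  rw [h2, h] at h1
  have h3 : evalK [0] 0 = 0 := h1.symm
  have h4 := chk_ne
  rw [h3] at h4
  exact absurd h4 (by decide)

theorem lets_model : Lets T S W F D Y where
  rel := Model.relsX_model
  gen := Model.closure_model
  card := RuOrder.card_H
  ne := T_ne
  tt := by wordeq chk_tt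
  g1 := by wordeq chk_g1
  g2 := by wordeq chk_g2
  g3 := by wordeq chk_g3
  g4 := by wordeq chk_g4
  g5 := by wordeq chk_g5

end model

/-- letters in every group isomorphic to the Rudvalis group -/
theorem exists_lets {K : Type*} [Group K] (h : Cfsg.Spor.IsoRu K) : ∃ t s w f d y : K, Lets t s w f d y := by
  obtain ⟨e⟩ := h
  let e' : Cfsg.Agent.SporadicB.RuOrder.H ≃* K := (e.trans Cfsg.Agent.RuLat.Main.equiv).symm
  exact ⟨_, _, _, _, _, _, lets_model.map e'⟩

end Cfsg.Agent.KFacts.Ru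

end

-- merged: Cfsg.Agent.KFacts.Ru.Count
section

/-!
# The centraliser of `t` in the Rudvalis group: the upper bound

`H = ⟨t, s, w, f, d⟩` has order 349440 and index 417600; `t` fixes at most 456 cosets of `H`. If `m` pairs
`(g, g⁻¹ t g)` with different second components in `H` are known, `|C(t)| * m ≤ 456 * 349440`.
-/

set_option autoImplicit false
set_option maxRecDepth 100000
set_option linter.constructorNameAsVariable false

namespace Cfsg.Agent.KFacts.Ru

open Subgroup Cfsg.Agent.SporRec.TCUpperCert Cfsg.Agent.RuD Cfsg.Agent.RuD.Rels Cfsg.Agent.RuD.IdxDef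
open Cfsg.Agent.Lib.PermNet Cfsg.Agent.RuD.IdxNet Cfsg.Agent.RuD.IdxRel Cfsg.Agent.RuD.IdxRelX

variable {K : Type*} [Group K] {t s w f d y : K}

theorem Lets.finite (h : Lets t s w f d y) : Finite K := Nat.finite_of_card_ne_zero (by rw [h.card]; norm_num)

theorem Lets.card_H (h : Lets t s w f d y) : Nat.card (closure ({t, s, w, f, d} : Set K)) = 349440 ∧
    (closure ({t, s, w, f, d} : Set K)).index = 417600 := by
  have h1 := (HBound.card_H h.rel.toRuRels).1
  have h2 := (IdxFin.index_le h.rel).1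
  rw [h.gen, relIndex_top_right] at h2
  have h3 := (closure ({t, s, w, f, d} : Set K)).index_mul_card
  rw [h.card] at h3
  constructor
  · by_contra hne
    have h4 : Nat.card (closure ({t, s, w, f, d} : Set K)) ≤ 349439 := by omega
    have h5 := Nat.mul_le_mul h2 h4
    omega
  · by_contra hne
    have h4 : (closure ({t, s, w, f, d} : Set K)).index ≤ 417599 := by omega
    have h5 := Nat.mul_le_mul h4 h1
    omega

theorem Lets.rel8 (h : Lets t s w f d y) : SzL.Rel8 s w f := SzL.rel8_of h.rel.toRuRels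

theorem L_le_H : closure ({s, w, f} : Set K) ≤ closure ({t, s, w, f, d} : Set K) :=
  closure_mono (by intro x hx; rcases hx with rfl | rfl | rfl <;> simp)

theorem Lets.card_L (h : Lets t s w f d y) : Nat.card (closure ({s, w, f} : Set K)) = 29120 := by
  have h1 := (SzL.card_le h.rel8).1
  have h2 := (HBound.index_H h.rel.toRuRels).1
  have h3 := relIndex_mul_relIndex _ _ _ (bot_le : ⊥ ≤ closure ({s, w, f} : Set K)) (L_le_H (t := t) (d := d))
  rw [relIndex_bot_left, relIndex_bot_left, h.card_H.1] at h3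
  by_contra hne
  have h4 : Nat.card (closure ({s, w, f} : Set K)) ≤ 29119 := by omega
  have h5 := Nat.mul_le_mul h4 h2
  omega

/-! ### fixed points -/

/-- the fixed cosets are among 456 -/
theorem Lets.card_fix (h : Lets t s w f d y) :
    Nat.card {q : K ⧸ closure ({t, s, w, f, d} : Set K) // t • q = q} ≤ 456 := by
  have : Finite K := h.finite
  set H := closure ({t, s, w, f, d} : Set K) with hH
  obtain ⟨F, hF0, hF⟩ := IdxFin.valid.exists_label (X := K ⧸ H) (xg t s w f d y) (ev_rels h.rel)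
    ((1 : K) : K ⧸ H) (fun a ha => by
      show ((xg t s w f d y a * 1 : K) : K ⧸ H) = ((1 : K) : K ⧸ H)
      rw [QuotientGroup.eq]
      simpa using H.inv_mem (xg_mem_H t s w f d y a ha))
  have hcl := IdxFin.valid.inv_closed hF
  rw [closure_xg, h.gen] at hcl
  let φ : Fin 417600 → K ⧸ H := fun i => F i
  have hsurj : Function.Surjective φ := by
    intro q
    obtain ⟨g, rfl⟩ := QuotientGroup.mk_surjective q
    obtain ⟨j, hj, e⟩ := hcl g (mem_top g) _ (show IdxDef.C.root < IdxDef.C.n from (by decide : (412160 : ℕ) < 417600))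
    refine ⟨⟨j, hj⟩, ?_⟩
    show F j = _
    rw [← e, hF0]
    show ((g * 1 : K) : K ⧸ H) = _
    rw [mul_one]
  have hbij : Function.Bijective φ := by
    rw [Nat.bijective_iff_surjective_and_card]
    refine ⟨hsurj, ?_⟩
    rw [Nat.card_eq_fintype_card, Fintype.card_fin]
    exact h.card_H.2.symm
  -- the letter `t`
  have ht2 : t * t = 1 := h.rel.t2
  have hxt : xg t s w f d y .t = t := by
    show (lv (gl t s w f d y) 0)⁻¹ = t
    have : lv (gl t s w f d y) 0 = t := rfl
    rw [this]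
    exact inv_eq_of_mul_eq_one_left ht2
  have hpt : ∀ i < 417600, t • F i = F (netT.perm i) := by
    intro i hi
    have h1 := hF .t i hi
    rw [hxt] at h1
    exact h1
  have hlt : ∀ i, netT.perm i < 417600 ↔ i < 417600 := fun i => IdxFin.valid.hn .t i
  let ψ : {q : K ⧸ H // t • q = q} → FixT.fixS := fun q =>
    ⟨((Equiv.ofBijective φ hbij).symm q.1 : Fin 417600), by
      set i := (Equiv.ofBijective φ hbij).symm q.1 with hi
      have h1 : φ i = q.1 := (Equiv.ofBijective φ hbij).apply_symm_apply q.1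
      have h2 := q.2
      rw [← h1] at h2
      have h3 : F (netT.perm i) = F i := by rw [← hpt i i.2]; exact h2
      have h4 : (⟨netT.perm i, (hlt i).2 i.2⟩ : Fin 417600) = i := hbij.1 h3
      exact FixT.fix_mem i.2 (congrArg Fin.val h4)⟩
  have hψ : Function.Injective ψ := by
    intro a b hab
    apply Subtype.ext
    have h1 : ((Equiv.ofBijective φ hbij).symm a.1 : ℕ) = ((Equiv.ofBijective φ hbij).symm b.1 : ℕ) :=
      congrArg (fun x : FixT.fixS => (x : ℕ)) hab
    exact (Equiv.ofBijective φ hbij).symm.injective (Fin.ext h1)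
  refine (Nat.card_le_card_of_injective ψ hψ).trans ?_
  rw [Nat.card_eq_fintype_card, Fintype.card_coe]
  exact FixT.card_fixS

/-- the elements conjugating `t` into `H` -/
theorem Lets.card_P (h : Lets t s w f d y) :
    Nat.card {g : K // g⁻¹ * t * g ∈ closure ({t, s, w, f, d} : Set K)} ≤ 456 * 349440 := by
  have : Finite K := h.finite
  set H := closure ({t, s, w, f, d} : Set K) with hH
  have hout : ∀ g : K, ((g : K ⧸ H).out)⁻¹ * g ∈ H := fun g => by
    rw [← QuotientGroup.eq, QuotientGroup.out_eq']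
  let φ : {g : K // g⁻¹ * t * g ∈ H} → {q : K ⧸ H // t • q = q} × H := fun g =>
    (⟨(g.1 : K ⧸ H), by
      show ((t * g.1 : K) : K ⧸ H) = (g.1 : K ⧸ H)
      rw [eq_comm, QuotientGroup.eq, ← mul_assoc]
      exact g.2⟩, ⟨((g.1 : K ⧸ H).out)⁻¹ * g.1, hout g.1⟩)
  have hφ : Function.Injective φ := by
    intro a b hab
    have h1 : (a.1 : K ⧸ H) = (b.1 : K ⧸ H) := congrArg (fun x => x.1.1) hab
    have h2 : ((a.1 : K ⧸ H).out)⁻¹ * a.1 = ((b.1 : K ⧸ H).out)⁻¹ * b.1 := congrArg (fun x => (x.2 : K)) hab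
    rw [h1] at h2
    exact Subtype.ext (mul_left_cancel h2)
  refine (Nat.card_le_card_of_injective φ hφ).trans ?_
  rw [Nat.card_prod, h.card_H.1]
  exact Nat.mul_le_mul_right _ h.card_fix

/-- **the bound** -/
theorem Lets.card_mul (h : Lets t s w f d y) {ι : Type*} (c : ι → K) (hinj : Function.Injective c)
    (hc : ∀ i, c i ∈ closure ({t, s, w, f, d} : Set K)) (hconj : ∀ i, ∃ g : K, g⁻¹ * t * g = c i) :
    Nat.card (centralizer ({t} : Set K)) * Nat.card ι ≤ 456 * 349440 := by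
  have : Finite K := h.finite
  choose g hg using hconj
  refine le_trans ?_ h.card_P
  rw [← Nat.card_prod]
  refine Nat.card_le_card_of_injective
    (fun p : centralizer ({t} : Set K) × ι => (⟨(p.1 : K) * g p.2, ?_⟩ :
      {g : K // g⁻¹ * t * g ∈ closure ({t, s, w, f, d} : Set K)})) ?_
  · have h1 := mem_centralizer_singleton_iff.1 p.1.2
    have h2 : ((p.1 : K) * g p.2)⁻¹ * t * ((p.1 : K) * g p.2) = c p.2 := by
      rw [← hg p.2]
      calc ((p.1 : K) * g p.2)⁻¹ * t * ((p.1 : K) * g p.2) = (g p.2)⁻¹ * ((p.1 : K)⁻¹ * (t * (p.1 : K))) * g p.2 := by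
            group
        _ = (g p.2)⁻¹ * ((p.1 : K)⁻¹ * ((p.1 : K) * t)) * g p.2 := by rw [h1]
        _ = _ := by group
    rw [h2]
    exact hc _
  · rintro ⟨a, i⟩ ⟨b, j⟩ hab
    have h0 : (a : K) * g i = (b : K) * g j := congrArg Subtype.val hab
    have key : ∀ (a : centralizer ({t} : Set K)) (i : ι), ((a : K) * g i)⁻¹ * t * ((a : K) * g i) = c i := by
      intro a i
      have h1 := mem_centralizer_singleton_iff.1 a.2
      rw [← hg i]
      calc ((a : K) * g i)⁻¹ * t * ((a : K) * g i) = (g i)⁻¹ * ((a : K)⁻¹ * (t * (a : K))) * g i := by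
            group
        _ = (g i)⁻¹ * ((a : K)⁻¹ * ((a : K) * t)) * g i := by rw [h1]
        _ = _ := by group
    have h2 : c i = c j := by rw [← key a i, ← key b j, h0]
    have h3 := hinj h2
    subst h3
    have h4 : (a : K) = b := mul_right_cancel h0
    rw [Subtype.ext h4]

/-! ### involutions of `Sz(8)` -/

open Cfsg.Agent.ThreePrime Cfsg.Agent.RuB in
theorem card_inv {J : Type*} [Group J] [Finite J] (R : SzRel.Rel J K8) : 456 ≤ Nat.card {l : J // l * l = 1} := by
  classical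
  -- the involutions
  have h455 : 455 ≤ Nat.card {l : J // l * l = 1 ∧ l ≠ 1} := by
    let f : J → {l : J // l * l = 1 ∧ l ≠ 1} := fun m => ⟨m * R.u 0 1 * m⁻¹, by
      calc m * R.u 0 1 * m⁻¹ * (m * R.u 0 1 * m⁻¹) = m * (R.u 0 1 * R.u 0 1) * m⁻¹ := by group
        _ = 1 := by rw [SzL.zsq]; group, fun h1 => by
      have h2 : R.u 0 1 = 1 := by
        calc R.u 0 1 = m⁻¹ * (m * R.u 0 1 * m⁻¹) * m := by group
          _ = 1 := by rw [h1]; group
      rw [← R.u_zero] at h2
      exact one_ne_zero (R.u_inj h2).2⟩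
    have hfib : ∀ x, Nat.card {m // f m = x} ≤ 64 := by
      intro x
      by_cases hne : Nonempty {m // f m = x}
      · obtain ⟨m0, hm0⟩ := hne
        have h64 : Nat.card R.T = 64 := by rw [R.card_T, K8.natCard]
        rw [← h64]
        refine Nat.card_le_card_of_injective (fun m : {m // f m = x} => (⟨m0⁻¹ * m.1, ?_⟩ : R.T)) ?_
        · have h1 : m.1 * R.u 0 1 * (m.1)⁻¹ = m0 * R.u 0 1 * m0⁻¹ := by
            have := m.2.trans hm0.symm
            exact congrArg Subtype.val this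
          apply RuB.AutFix.mem_T_of_comm R one_ne_zero
          calc (m0⁻¹ * m.1) * R.u 0 1 = m0⁻¹ * (m.1 * R.u 0 1 * (m.1)⁻¹) * m.1 := by group
            _ = m0⁻¹ * (m0 * R.u 0 1 * m0⁻¹) * m.1 := by rw [h1]
            _ = _ := by group
        · intro a b hab
          have h1 : m0⁻¹ * a.1 = m0⁻¹ * b.1 := congrArg Subtype.val hab
          exact Subtype.ext (mul_left_cancel h1)
      · rw [not_nonempty_iff] at hne
        rw [Nat.card_of_isEmpty]
        omega
    have h1 := Nat.card_congr (Equiv.sigmaFiberEquiv f)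
    have : Fintype {l : J // l * l = 1 ∧ l ≠ 1} := Fintype.ofFinite _
    rw [Nat.card_sigma, RuB.Count.card_J R] at h1
    have h2 : ∑ a : {l : J // l * l = 1 ∧ l ≠ 1}, Nat.card {m // f m = a} ≤
        Fintype.card {l : J // l * l = 1 ∧ l ≠ 1} * 64 := by
      rw [← smul_eq_mul, ← Finset.card_univ]
      exact Finset.sum_le_card_nsmul _ _ _ fun a _ => hfib a
    rw [Nat.card_eq_fintype_card]
    omega
  let g : Option {l : J // l * l = 1 ∧ l ≠ 1} → {l : J // l * l = 1} := fun o =>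
    o.elim ⟨1, one_mul 1⟩ fun l => ⟨l.1, l.2.1⟩
  have hg : Function.Injective g := by
    intro a b hab
    rcases a with _ | a <;> rcases b with _ | b
    · rfl
    · exact absurd (congrArg Subtype.val hab).symm b.2.2
    · exact absurd (congrArg Subtype.val hab) a.2.2
    · have h1 : (g (some a)).1 = (g (some b)).1 := congrArg Subtype.val hab
      have h2 : a.1 = b.1 := h1
      rw [Subtype.ext h2]
  have h1 := Nat.card_le_card_of_injective g hg
  rw [Finite.card_option] at h1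
  omega

end Cfsg.Agent.KFacts.Ru

end

-- merged: Cfsg.Agent.KFacts.Ru.Core
section

/-!
# The `Core` of the Rudvalis group

`exists_core`: every group isomorphic to the Rudvalis group has a `RuB.Core` satisfying `Ru127.Sg.Rel`.
-/

set_option autoImplicit false
set_option maxRecDepth 100000

namespace Cfsg.Agent.KFacts.Ru

open Subgroup Cfsg.Agent.RuB Cfsg.Agent.ThreePrime
open Cfsg.Agent.RuE.Letters (k0 k0_val k0_pow7)

variable {K : Type*} [Group K] {t s w f d y : K}

/-! ### the four-group -/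

theorem zmod2 : ∀ i : ZMod 2, i = 0 ∨ i = 1 := by decide

/-- `x ^ i` -/
def pw (x : K) (i : ZMod 2) : K := if i = 0 then 1 else x

theorem pw_zero (x : K) : pw x 0 = 1 := rfl
theorem pw_one (x : K) : pw x 1 = x := rfl

theorem pw_mul {x : K} (hx : x * x = 1) (i j : ZMod 2) : pw x i * pw x j = pw x (i + j) := by
  have e : (1 : ZMod 2) + 1 = 0 := by decide
  rcases zmod2 i with rfl | rfl <;> rcases zmod2 j with rfl | rfl
  · rw [pw_zero, one_mul, add_zero, pw_zero]
  · rw [pw_zero, one_mul, zero_add]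
  · rw [pw_zero, mul_one, add_zero]
  · rw [pw_one, hx, e, pw_zero]

theorem pw_comm {x g : K} (hx : x * g = g * x) (i : ZMod 2) : pw x i * g = g * pw x i := by
  rcases zmod2 i with rfl | rfl
  · rw [pw_zero, one_mul, mul_one]
  · exact hx

/-- the elements of the four-group -/
def vv (t d : K) (a : A4) : K := pw t a.1 * pw (d * t * d⁻¹) a.2

theorem Lets.tsq (h : Lets t s w f d y) : t * t = 1 := h.rel.t2

theorem Lets.t2sq (h : Lets t s w f d y) : d * t * d⁻¹ * (d * t * d⁻¹) = 1 := by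
  calc d * t * d⁻¹ * (d * t * d⁻¹) = d * (t * t) * d⁻¹ := by group
    _ = 1 := by rw [h.tsq]; group

theorem Lets.vv_add (h : Lets t s w f d y) (a b : A4) : vv t d (a + b) = vv t d a * vv t d b := by
  unfold vv
  have h1 : pw (d * t * d⁻¹) a.2 * pw t b.1 = pw t b.1 * pw (d * t * d⁻¹) a.2 :=
    pw_comm (pw_comm h.tt b.1).symm a.2
  rw [Prod.fst_add, Prod.snd_add, ← pw_mul h.tsq, ← pw_mul h.t2sq]
  calc pw t a.1 * pw t b.1 * (pw (d * t * d⁻¹) a.2 * pw (d * t * d⁻¹) b.2)
      = pw t a.1 * (pw t b.1 * pw (d * t * d⁻¹) a.2) * pw (d * t * d⁻¹) b.2 := by simp only [mul_assoc]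
    _ = pw t a.1 * (pw (d * t * d⁻¹) a.2 * pw t b.1) * pw (d * t * d⁻¹) b.2 := by rw [h1]
    _ = _ := by simp only [mul_assoc]

theorem vv_zero : vv t d 0 = 1 := by
  show (1 : K) * 1 = 1
  rw [one_mul]

theorem vv_one0 : vv t d (1, 0) = t := by
  show t * 1 = t
  rw [mul_one]

theorem vv_01 : vv t d (0, 1) = d * t * d⁻¹ := by
  show 1 * (d * t * d⁻¹) = _
  rw [one_mul]

theorem vv_11 : vv t d (1, 1) = t * (d * t * d⁻¹) := rfl

/-! ### the action of `d` -/

theorem Lets.ds (h : Lets t s w f d y) : d * s * d⁻¹ = s := mul_inv_eq_one.1 h.rel.ds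

theorem Lets.dw (h : Lets t s w f d y) : d * w * d⁻¹ = w := by
  have h1 := h.rel.dw
  have h2 := h.rel.w2
  calc d * w * d⁻¹ = d * w * d⁻¹ * (w * w) := by rw [h2, mul_one]
    _ = (d * w * d⁻¹ * w) * w := by simp only [mul_assoc]
    _ = w := by rw [h1, one_mul]

theorem Lets.df (h : Lets t s w f d y) : d⁻¹ * f * d = f * f * f * f := by
  have h1 := h.rel.df
  calc d⁻¹ * f * d = (d⁻¹ * f * d * f⁻¹ * f⁻¹ * f⁻¹ * f⁻¹) * (f * f * f * f) := by group
    _ = _ := by rw [h1, one_mul]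

theorem Lets.d3 (h : Lets t s w f d y) : d * d * d = 1 := h.rel.d3

theorem Lets.dinv (h : Lets t s w f d y) : d⁻¹ = d * d := inv_eq_of_mul_eq_one_left h.d3

/-- `d⁻¹` normalises `L` -/
theorem Lets.dinv_L (h : Lets t s w f d y) {l : K} (hl : l ∈ closure ({s, w, f} : Set K)) :
    d⁻¹ * l * d ∈ closure ({s, w, f} : Set K) := by
  induction hl using closure_induction with
  | mem x hx =>
    rcases hx with rfl | rfl | rfl
    · have : d⁻¹ * x * d = x := by
        calc d⁻¹ * x * d = d⁻¹ * (d * x * d⁻¹) * d := by rw [h.ds]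
          _ = x := by group
      rw [this]; exact subset_closure (by simp)
    · have : d⁻¹ * x * d = x := by
        calc d⁻¹ * x * d = d⁻¹ * (d * x * d⁻¹) * d := by rw [h.dw]
          _ = x := by group
      rw [this]; exact subset_closure (by simp)
    · rw [h.df]
      have hf : x ∈ closure ({s, w, x} : Set K) := subset_closure (by simp)
      exact mul_mem (mul_mem (mul_mem hf hf) hf) hf
  | one =>
    have : d⁻¹ * 1 * d = 1 := by group
    rw [this]; exact one_mem _
  | mul a b _ _ ha hb =>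
    have : d⁻¹ * (a * b) * d = (d⁻¹ * a * d) * (d⁻¹ * b * d) := by group
    rw [this]; exact mul_mem ha hb
  | inv a _ ha =>
    have : d⁻¹ * a⁻¹ * d = (d⁻¹ * a * d)⁻¹ := by group
    rw [this]; exact inv_mem ha

theorem Lets.d_L (h : Lets t s w f d y) {l : K} (hl : l ∈ closure ({s, w, f} : Set K)) :
    d * l * d⁻¹ ∈ closure ({s, w, f} : Set K) := by
  have h1 := h.dinv_L (h.dinv_L hl)
  have h2 : d⁻¹ * (d⁻¹ * l * d) * d = d * l * d⁻¹ := by
    have h3 := h.dinv
    calc d⁻¹ * (d⁻¹ * l * d) * d = d⁻¹ * d⁻¹ * l * (d * d) := by group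
      _ = d⁻¹ * d⁻¹ * l * d⁻¹ := by rw [← h3]
      _ = (d * d) * (d * d) * l * d⁻¹ := by rw [← h3]
      _ = (d * d * d) * d * l * d⁻¹ := by group
      _ = _ := by rw [h.d3, one_mul]
  rw [← h2]; exact h1

theorem Lets.tL (h : Lets t s w f d y) {l : K} (hl : l ∈ closure ({s, w, f} : Set K)) : t * l = l * t := by
  have ht := h.tsq
  have htinv : t⁻¹ = t := inv_eq_of_mul_eq_one_left ht
  induction hl using closure_induction with
  | mem x hx =>
    rcases hx with rfl | rfl | rfl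
    · have h1 : t * x * t = x := mul_inv_eq_one.1 h.rel.ts
      calc t * x = (t * x * t) * t := by rw [mul_assoc (t * x), ht, mul_one]
        _ = _ := by rw [h1]
    · have h1 := h.rel.tw
      have hw := h.rel.w2
      have h2 : t * x * t = x := by
        calc t * x * t = t * x * t * (x * x) := by rw [hw, mul_one]
          _ = (t * x * t * x) * x := by simp only [mul_assoc]
          _ = x := by rw [h1, one_mul]
      calc t * x = (t * x * t) * t := by rw [mul_assoc (t * x), ht, mul_one]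
        _ = _ := by rw [h2]
    · have h1 : t * x * t = x := mul_inv_eq_one.1 h.rel.tf
      calc t * x = (t * x * t) * t := by rw [mul_assoc (t * x), ht, mul_one]
        _ = _ := by rw [h1]
  | one => rw [one_mul, mul_one]
  | mul a b _ _ ha hb =>
    calc t * (a * b) = (t * a) * b := by rw [mul_assoc]
      _ = a * (t * b) := by rw [ha, mul_assoc]
      _ = _ := by rw [hb, mul_assoc]
  | inv a _ ha =>
    calc t * a⁻¹ = a⁻¹ * (a * t) * a⁻¹ := by group
      _ = a⁻¹ * (t * a) * a⁻¹ := by rw [ha]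
      _ = _ := by group

theorem Lets.t2L (h : Lets t s w f d y) {l : K} (hl : l ∈ closure ({s, w, f} : Set K)) :
    (d * t * d⁻¹) * l = l * (d * t * d⁻¹) := by
  have h1 := h.tL (h.dinv_L hl)
  calc (d * t * d⁻¹) * l = d * (t * (d⁻¹ * l * d)) * d⁻¹ := by group
    _ = d * ((d⁻¹ * l * d) * t) * d⁻¹ := by rw [h1]
    _ = _ := by group

theorem Lets.vv_L (h : Lets t s w f d y) (a : A4) {l : K} (hl : l ∈ closure ({s, w, f} : Set K)) :
    vv t d a * l = l * vv t d a := by
  unfold vv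
  rw [mul_assoc, pw_comm (h.t2L hl), ← mul_assoc, pw_comm (h.tL hl), mul_assoc]

/-- the action of `d` on the indices -/
def rot (a : A4) : A4 := (a.2, a.1 + a.2)

theorem Lets.dt2 (h : Lets t s w f d y) : d * (d * t * d⁻¹) * d⁻¹ = t * (d * t * d⁻¹) := by
  have h1 := h.rel.td
  have h2 : (t * (d * t * d⁻¹)) * (d * (d * t * d⁻¹) * d⁻¹) = 1 := by
    calc (t * (d * t * d⁻¹)) * (d * (d * t * d⁻¹) * d⁻¹) = (t * d * t * d * t * d) * (d⁻¹ * d⁻¹ * d⁻¹) := by group
      _ = (d * d * d)⁻¹ := by rw [h1, one_mul]; group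
      _ = 1 := by rw [h.d3, inv_one]
  have h3 : (t * (d * t * d⁻¹)) * (t * (d * t * d⁻¹)) = 1 := by
    calc (t * (d * t * d⁻¹)) * (t * (d * t * d⁻¹)) = t * ((d * t * d⁻¹) * t) * (d * t * d⁻¹) := by simp only [mul_assoc]
      _ = t * (t * (d * t * d⁻¹)) * (d * t * d⁻¹) := by rw [← h.tt]
      _ = (t * t) * ((d * t * d⁻¹) * (d * t * d⁻¹)) := by simp only [mul_assoc]
      _ = 1 := by rw [h.tsq, h.t2sq, one_mul]
  exact mul_left_cancel (h2.trans h3.symm)

theorem pw_conj (x g : K) (i : ZMod 2) : g * pw x i * g⁻¹ = pw (g * x * g⁻¹) i := by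
  rcases zmod2 i with rfl | rfl
  · rw [pw_zero, pw_zero, mul_one, mul_inv_cancel]
  · rfl

theorem pw_prod (x z : K) (i : ZMod 2) : pw (x * z) i = pw x i * pw z i := by
  rcases zmod2 i with rfl | rfl
  · exact (one_mul 1).symm
  · rfl

theorem Lets.vv_rot (h : Lets t s w f d y) (a : A4) : d * vv t d a * d⁻¹ = vv t d (rot a) := by
  unfold vv rot
  have h1 : d * (pw t a.1 * pw (d * t * d⁻¹) a.2) * d⁻¹ = (d * pw t a.1 * d⁻¹) * (d * pw (d * t * d⁻¹) a.2 * d⁻¹) := by
    group
  rw [h1, pw_conj, pw_conj, h.dt2, pw_prod t (d * t * d⁻¹), ← mul_assoc, pw_comm (pw_comm h.tt a.2).symm, mul_assoc,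
    pw_mul h.t2sq]

theorem Lets.vv_ne (h : Lets t s w f d y) {a : A4} (ha : a ≠ 0) : vv t d a ≠ 1 := by
  have key : ∀ a : A4, vv t d (rot a) = 1 → vv t d a = 1 := by
    intro a ha
    rw [← h.vv_rot] at ha
    calc vv t d a = d⁻¹ * (d * vv t d a * d⁻¹) * d := by group
      _ = 1 := by rw [ha]; group
  have cases : ∀ a : A4, a ≠ 0 → a = (1, 0) ∨ a = rot (1, 0) ∨ a = rot (rot (1, 0)) := by decide
  intro h1
  apply h.ne
  rw [← vv_one0 (t := t) (d := d)]
  rcases cases a ha with rfl | rfl | rfl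
  · exact h1
  · exact key _ h1
  · exact key _ (key _ h1)

theorem Lets.vv_conj (h : Lets t s w f d y) {a : A4} (ha : a ≠ 0) : ∃ g : K, g⁻¹ * t * g = vv t d a := by
  have key : ∀ a : A4, (∃ g : K, g⁻¹ * t * g = vv t d a) → ∃ g : K, g⁻¹ * t * g = vv t d (rot a) := by
    rintro a ⟨g, hg⟩
    refine ⟨g * d⁻¹, ?_⟩
    rw [← h.vv_rot, ← hg]
    group
  have cases : ∀ a : A4, a ≠ 0 → a = (1, 0) ∨ a = rot (1, 0) ∨ a = rot (rot (1, 0)) := by decide
  have h0 : ∃ g : K, g⁻¹ * t * g = vv t d (1, 0) := ⟨1, by rw [vv_one0]; group⟩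
  rcases cases a ha with rfl | rfl | rfl
  · exact h0
  · exact key _ h0
  · exact key _ (key _ h0)

/-! ### growth -/

section grow

variable (R : SzRel.Rel ↥(closure ({s, w, f} : Set K)) K8)

theorem z_add (a b : K8) : (R.u 0 a : K) * (R.u 0 b : K) = (R.u 0 (a + b) : K) := by
  have h := congrArg Subtype.val (SzL.umul R 0 a 0 b)
  have e : ∀ a b : K8, (0 : K8) + 0 = 0 ∧ a + b + 0 * (0 : K8) ^ 4 = a + b := by decide +kernel
  rw [(e a b).1, (e a b).2] at h
  exact h

theorem z_one (hs : (R.u 1 1 : K) = s) : s * s = (R.u 0 1 : K) := by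
  have h := congrArg Subtype.val (SzL.sq2 R)
  rw [← h]
  show s * s = (R.u 1 1 : K) * (R.u 1 1 : K)
  rw [hs]

theorem d_conj (k : K8ˣ) (b : K8) : (R.d k : K) * (R.u 0 b : K) * (R.d k : K)⁻¹ = (R.u 0 (b * (k : K8) ^ 4) : K) := by
  have h := congrArg Subtype.val (SzL.dconj R k 0 b)
  rw [zero_mul] at h
  exact h

theorem f_conj (hf : (R.d k0 : K) = f) (b : K8) : f * (R.u 0 b : K) * f⁻¹ = (R.u 0 (b * K8.al ^ 2) : K) := by
  have h := d_conj R k0 b
  have e : ∀ b : K8, b * (K8.al ^ 4) ^ 4 = b * K8.al ^ 2 := by decide +kernel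
  rw [hf, k0_val, e] at h
  exact h

theorem z_al2 (hs : (R.u 1 1 : K) = s) (hf : (R.d k0 : K) = f) : f * (s * s) * f⁻¹ = (R.u 0 (K8.al ^ 2) : K) := by
  rw [z_one R hs, f_conj R hf, one_mul]

theorem z_al (hs : (R.u 1 1 : K) = s) (hf : (R.d k0 : K) = f) :
    f * f * f * f * (s * s) * (f * f * f * f)⁻¹ = (R.u 0 K8.al : K) := by
  have e : (1 : K8) * K8.al ^ 2 * K8.al ^ 2 * K8.al ^ 2 * K8.al ^ 2 = K8.al := by decide +kernel
  calc f * f * f * f * (s * s) * (f * f * f * f)⁻¹ = f * (f * (f * (f * (s * s) * f⁻¹) * f⁻¹) * f⁻¹) * f⁻¹ := by group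
    _ = _ := by rw [z_one R hs, f_conj R hf, f_conj R hf, f_conj R hf, f_conj R hf, e]

theorem Lets.grow (h : Lets t s w f d y) (hs : (R.u 1 1 : K) = s) (hf : (R.d k0 : K) = f) (c : K8) :
    ∃ x : K, (∀ b, x * (R.u 0 b : K) = (R.u 0 b : K) * x) ∧
      ∀ a, x * vv t d a * x⁻¹ = vv t d a * (R.u 0 (c * emb a) : K) := by
  by_cases hc : c = 0
  · refine ⟨1, fun b => by rw [one_mul, mul_one], fun a => ?_⟩
    have h0 : (R.u 0 0 : K) = 1 := congrArg Subtype.val R.u_zero
    rw [hc, zero_mul, h0, one_mul, inv_one]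
  -- the element for `1 + α`
  have g1 := h.g1
  have g2 := h.g2
  have g3 := h.g3
  have g4 := h.g4
  have g5 := h.g5
  rw [z_al R hs hf, z_one R hs] at g1 g4
  rw [z_al R hs hf] at g2
  rw [z_al R hs hf, z_al2 R hs hf] at g3 g5
  set x := y * (R.u 0 K8.al : K) * y with hx
  have hz : ∀ b, x * (R.u 0 b : K) = (R.u 0 b : K) * x := by
    have hadd : ∀ a b : K8, x * (R.u 0 a : K) = (R.u 0 a : K) * x → x * (R.u 0 b : K) = (R.u 0 b : K) * x →
        x * (R.u 0 (a + b) : K) = (R.u 0 (a + b) : K) * x := by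
      intro a b ha hb
      rw [← z_add, ← mul_assoc, ha, mul_assoc, hb, mul_assoc]
    have h0 : x * (R.u 0 0 : K) = (R.u 0 0 : K) * x := by
      have h0 : (R.u 0 0 : K) = 1 := congrArg Subtype.val R.u_zero
      rw [h0, one_mul, mul_one]
    have all : ∀ b : K8, b = 0 ∨ b = 1 ∨ b = K8.al ∨ b = K8.al ^ 2 ∨ b = 1 + K8.al ∨ b = 1 + K8.al ^ 2 ∨
      b = K8.al + K8.al ^ 2 ∨ b = 1 + (K8.al + K8.al ^ 2) := by decide +kernel
    intro b
    rcases all b with rfl | rfl | rfl | rfl | rfl | rfl | rfl | rfl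
    · exact h0
    · exact g1
    · exact g2
    · exact g3
    · exact hadd _ _ g1 g2
    · exact hadd _ _ g1 g3
    · exact hadd _ _ g2 g3
    · exact hadd _ _ g1 (hadd _ _ g2 g3)
  have hzL : ∀ b, (R.u 0 b : K) ∈ closure ({s, w, f} : Set K) := fun b => (R.u 0 b).2
  have hp : ∀ i : ZMod 2, x * pw t i * x⁻¹ = pw t i * (R.u 0 (if i = 0 then 0 else 1 + K8.al) : K) := by
    intro i
    rcases zmod2 i with rfl | rfl
    · have h0 : (R.u 0 0 : K) = 1 := congrArg Subtype.val R.u_zero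
      rw [if_pos rfl, h0, pw_zero, mul_one, mul_one, mul_inv_cancel]
    · rw [if_neg (by decide), pw_one, g4, mul_inv_cancel_right, mul_assoc, z_add]
  have hq : ∀ i : ZMod 2, x * pw (d * t * d⁻¹) i * x⁻¹ =
      pw (d * t * d⁻¹) i * (R.u 0 (if i = 0 then 0 else K8.al + K8.al ^ 2) : K) := by
    intro i
    rcases zmod2 i with rfl | rfl
    · have h0 : (R.u 0 0 : K) = 1 := congrArg Subtype.val R.u_zero
      rw [if_pos rfl, h0, pw_zero, mul_one, mul_one, mul_inv_cancel]
    · rw [if_neg (by decide), pw_one, g5, mul_inv_cancel_right, mul_assoc, z_add]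
  have hv : ∀ a, x * vv t d a * x⁻¹ = vv t d a * (R.u 0 ((1 + K8.al) * emb a) : K) := by
    intro a
    have e : ∀ a : A4, (if a.1 = 0 then 0 else 1 + K8.al) + (if a.2 = 0 then 0 else K8.al + K8.al ^ 2) =
      (1 + K8.al) * emb a := by decide +kernel
    have h1 : x * vv t d a * x⁻¹ = (x * pw t a.1 * x⁻¹) * (x * pw (d * t * d⁻¹) a.2 * x⁻¹) := by
      unfold vv; group
    rw [h1, hp, hq, ← e a, ← z_add]
    unfold vv
    have h2 := pw_comm (h.t2L (hzL (if a.1 = 0 then 0 else 1 + K8.al))) a.2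
    calc pw t a.1 * (R.u 0 (if a.1 = 0 then 0 else 1 + K8.al) : K) *
          (pw (d * t * d⁻¹) a.2 * (R.u 0 (if a.2 = 0 then 0 else K8.al + K8.al ^ 2) : K))
        = pw t a.1 * ((R.u 0 (if a.1 = 0 then 0 else 1 + K8.al) : K) * pw (d * t * d⁻¹) a.2) *
          (R.u 0 (if a.2 = 0 then 0 else K8.al + K8.al ^ 2) : K) := by simp only [mul_assoc]
      _ = _ := by rw [← h2]; simp only [mul_assoc]
  have h1al : (1 + K8.al : K8) ≠ 0 := by decide +kernel
  have hk : (c * (1 + K8.al)⁻¹) ^ 2 ≠ 0 := pow_ne_zero _ (mul_ne_zero hc (inv_ne_zero h1al))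
  set k : K8ˣ := Units.mk0 _ hk with hkd
  have hkv : (k : K8) = (c * (1 + K8.al)⁻¹) ^ 2 := rfl
  refine ⟨(R.d k : K) * x * (R.d k : K)⁻¹, fun b => ?_, fun a => ?_⟩
  · have h1 := d_conj R k⁻¹ b
    have h2 : (R.d k⁻¹ : K) = (R.d k : K)⁻¹ := by
      rw [← R.d_inv]; rfl
    rw [h2, inv_inv] at h1
    calc (R.d k : K) * x * (R.d k : K)⁻¹ * (R.u 0 b : K)
        = (R.d k : K) * (x * ((R.d k : K)⁻¹ * (R.u 0 b : K) * (R.d k : K))) * (R.d k : K)⁻¹ := by group
      _ = (R.d k : K) * (((R.d k : K)⁻¹ * (R.u 0 b : K) * (R.d k : K)) * x) * (R.d k : K)⁻¹ := by rw [h1, hz]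
      _ = _ := by group
  · have h1 := h.vv_L a (R.d k).2
    have e : ∀ c e : K8, (1 + K8.al) * e * ((c * (1 + K8.al)⁻¹) ^ 2) ^ 4 = c * e := by decide +kernel
    calc (R.d k : K) * x * (R.d k : K)⁻¹ * vv t d a * ((R.d k : K) * x * (R.d k : K)⁻¹)⁻¹
        = (R.d k : K) * (x * ((R.d k : K)⁻¹ * (vv t d a * (R.d k : K))) * x⁻¹) * (R.d k : K)⁻¹ := by group
      _ = (R.d k : K) * (x * vv t d a * x⁻¹) * (R.d k : K)⁻¹ := by rw [h1, inv_mul_cancel_left]
      _ = (R.d k : K) * (vv t d a * (R.u 0 ((1 + K8.al) * emb a) : K)) * (R.d k : K)⁻¹ := by rw [hv]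
      _ = ((R.d k : K) * vv t d a) * (R.u 0 ((1 + K8.al) * emb a) : K) * (R.d k : K)⁻¹ := by simp only [mul_assoc]
      _ = vv t d a * ((R.d k : K) * (R.u 0 ((1 + K8.al) * emb a) : K) * (R.d k : K)⁻¹) := by
          rw [← h1]; simp only [mul_assoc]
      _ = _ := by rw [d_conj, hkv, e]

/-! ### the centralisers -/

include R in
theorem Lets.notin (h : Lets t s w f d y) (a : A4) (ha : vv t d a ∈ closure ({s, w, f} : Set K)) : a = 0 := by
  by_contra hne
  apply h.vv_ne hne
  have h1 : (⟨vv t d a, ha⟩ : ↥(closure ({s, w, f} : Set K))) = 1 :=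
    RuRed.CtxSz.center_trivial R fun l => Subtype.ext (h.vv_L a l.2)
  exact congrArg Subtype.val h1

include R in
theorem Lets.inj (h : Lets t s w f d y) {a b : A4} {l m : K} (hl : l ∈ closure ({s, w, f} : Set K))
    (hm : m ∈ closure ({s, w, f} : Set K)) (e : vv t d a * l = vv t d b * m) : a = b ∧ l = m := by
  have haa : vv t d b * vv t d b = 1 := by
    rw [← h.vv_add]
    have h0 : ∀ b : A4, b + b = 0 := by decide
    rw [h0, vv_zero]
  have h1 : vv t d (b + a) = m * l⁻¹ := by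
    rw [h.vv_add, eq_mul_inv_iff_mul_eq, mul_assoc, e, ← mul_assoc, haa, one_mul]
  have h2 := h.notin R (b + a) (by rw [h1]; exact mul_mem hm (inv_mem hl))
  have h3 : ∀ a b : A4, b + a = 0 → a = b := by decide
  have h4 := h3 a b h2
  subst h4
  exact ⟨rfl, mul_left_cancel e⟩

theorem Lets.conj_vl (h : Lets t s w f d y) (hs : (R.u 1 1 : K) = s) (hf : (R.d k0 : K) = f) {a : A4} (ha : a ≠ 0)
    (l : ↥(closure ({s, w, f} : Set K))) (hl : l * l = 1) : ∃ g : K, g⁻¹ * t * g = vv t d a * l := by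
  have : Finite K := h.finite
  obtain ⟨g0, hg0⟩ := h.vv_conj ha
  by_cases hl1 : l = 1
  · exact ⟨g0, by rw [hl1, hg0]; exact (mul_one _).symm⟩
  obtain ⟨m, hm⟩ := RuB.Count.exists_conj R hl hl1
  obtain ⟨x, hx, hxv⟩ := h.grow R hs hf (emb a)⁻¹
  have he : emb a ≠ 0 := fun h1 => ha (emb_eq_zero.1 h1)
  have h1 := hxv a
  rw [inv_mul_cancel₀ he] at h1
  have h2 := h.vv_L a m.2
  have h3 : (m : K) * (R.u 0 1 : K) * (m : K)⁻¹ = (l : K) := congrArg Subtype.val hm
  refine ⟨g0 * (m * x)⁻¹, ?_⟩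
  calc (g0 * (m * x : K)⁻¹)⁻¹ * t * (g0 * (m * x : K)⁻¹) = m * (x * (g0⁻¹ * t * g0) * x⁻¹) * (m : K)⁻¹ := by group
    _ = m * (vv t d a * (R.u 0 1 : K)) * (m : K)⁻¹ := by rw [hg0, h1]
    _ = (m * vv t d a) * (R.u 0 1 : K) * (m : K)⁻¹ := by simp only [mul_assoc]
    _ = vv t d a * (m * (R.u 0 1 : K) * (m : K)⁻¹) := by rw [← h2]; simp only [mul_assoc]
    _ = _ := by rw [h3]

theorem Lets.vv_mem_H (a : A4) : vv t d a ∈ closure ({t, s, w, f, d} : Set K) := by
  have ht : t ∈ closure ({t, s, w, f, d} : Set K) := subset_closure (by simp)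
  have hd : d ∈ closure ({t, s, w, f, d} : Set K) := subset_closure (by simp)
  have key : ∀ (x : K) (i : ZMod 2), x ∈ closure ({t, s, w, f, d} : Set K) →
      pw x i ∈ closure ({t, s, w, f, d} : Set K) := by
    intro x i hx
    rcases zmod2 i with rfl | rfl
    · exact one_mem _
    · exact hx
  exact mul_mem (key _ _ ht) (key _ _ (mul_mem (mul_mem hd ht) (inv_mem hd)))

theorem Lets.card_cent (h : Lets t s w f d y) (hs : (R.u 1 1 : K) = s) (hf : (R.d k0 : K) = f) :
    Nat.card (centralizer ({t} : Set K)) ≤ 116480 := by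
  have : Finite K := h.finite
  let c : {a : A4 // a ≠ 0} × {l : ↥(closure ({s, w, f} : Set K)) // l * l = 1} → K := fun p =>
    vv t d p.1.1 * ((p.2.1 : ↥(closure ({s, w, f} : Set K))) : K)
  have h1 := h.card_mul c (fun p q e => by
      obtain ⟨e1, e2⟩ := h.inj R p.2.1.2 q.2.1.2 e
      exact Prod.ext (Subtype.ext e1) (Subtype.ext (Subtype.ext e2)))
    (fun p => mul_mem (Lets.vv_mem_H p.1.1) (L_le_H p.2.1.2))
    (fun p => h.conj_vl R hs hf p.1.2 p.2.1 p.2.2)
  have h3 : Nat.card {a : A4 // a ≠ 0} = 3 := by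
    rw [Nat.card_eq_fintype_card]; decide
  rw [Nat.card_prod, h3] at h1
  have h4 := card_inv R
  have h5 : Nat.card (centralizer ({t} : Set K)) * (3 * 456) ≤ 456 * 349440 :=
    (Nat.mul_le_mul_left _ (Nat.mul_le_mul_left _ h4)).trans h1
  omega

theorem Lets.cent_t (h : Lets t s w f d y) (hs : (R.u 1 1 : K) = s) (hf : (R.d k0 : K) = f) {g : K}
    (hg : g * t = t * g) : ∃ b, ∃ l ∈ closure ({s, w, f} : Set K), g = vv t d b * l := by
  have : Finite K := h.finite
  have htt : ∀ b : A4, vv t d b * t = t * vv t d b := by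
    intro b
    have h1 := h.vv_add b (1, 0)
    have h2 := h.vv_add (1, 0) b
    rw [vv_one0] at h1 h2
    rw [← h1, ← h2, add_comm]
  let φ : A4 × ↥(closure ({s, w, f} : Set K)) → centralizer ({t} : Set K) := fun p =>
    ⟨vv t d p.1 * (p.2 : K), mem_centralizer_singleton_iff.2 (by
      rw [mul_assoc, ← h.tL p.2.2, ← mul_assoc, htt, mul_assoc])⟩
  have hinj : Function.Injective φ := by
    intro p q e
    obtain ⟨e1, e2⟩ := h.inj R p.2.2 q.2.2 (congrArg Subtype.val e)
    exact Prod.ext e1 (Subtype.ext e2)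
  have hcard : Nat.card (A4 × ↥(closure ({s, w, f} : Set K))) = 116480 := by
    have h4 : Nat.card A4 = 4 := by rw [Nat.card_eq_fintype_card]; decide
    rw [Nat.card_prod, h.card_L, h4]
  have hbij : Function.Bijective φ := by
    rw [Nat.bijective_iff_injective_and_card]
    refine ⟨hinj, le_antisymm (Nat.card_le_card_of_injective φ hinj) ?_⟩
    rw [hcard]
    exact h.card_cent R hs hf
  obtain ⟨⟨b, l⟩, hbl⟩ := hbij.2 ⟨g, mem_centralizer_singleton_iff.2 hg⟩
  exact ⟨b, l, l.2, (congrArg Subtype.val hbl).symm⟩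

theorem Lets.cent (h : Lets t s w f d y) (hs : (R.u 1 1 : K) = s) (hf : (R.d k0 : K) = f) (a : A4) (ha : a ≠ 0)
    (g : K) (hg : g * vv t d a = vv t d a * g) : ∃ b, ∃ l ∈ closure ({s, w, f} : Set K), g = vv t d b * l := by
  have key : ∀ a : A4, (∀ g : K, g * vv t d a = vv t d a * g →
        ∃ b, ∃ l ∈ closure ({s, w, f} : Set K), g = vv t d b * l) →
      ∀ g : K, g * vv t d (rot a) = vv t d (rot a) * g →
        ∃ b, ∃ l ∈ closure ({s, w, f} : Set K), g = vv t d b * l := by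
    intro a hP g hg
    rw [← h.vv_rot] at hg
    obtain ⟨b, l, hl, e⟩ := hP (d⁻¹ * g * d) (by
      calc d⁻¹ * g * d * vv t d a = d⁻¹ * (g * (d * vv t d a * d⁻¹)) * d := by group
        _ = d⁻¹ * ((d * vv t d a * d⁻¹) * g) * d := by rw [hg]
        _ = _ := by group)
    refine ⟨rot b, d * l * d⁻¹, h.d_L hl, ?_⟩
    rw [← h.vv_rot]
    calc g = d * (d⁻¹ * g * d) * d⁻¹ := by group
      _ = _ := by rw [e]; group
  have cases : ∀ a : A4, a ≠ 0 → a = (1, 0) ∨ a = rot (1, 0) ∨ a = rot (rot (1, 0)) := by decide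
  have h0 : ∀ g : K, g * vv t d (1, 0) = vv t d (1, 0) * g →
      ∃ b, ∃ l ∈ closure ({s, w, f} : Set K), g = vv t d b * l := by
    intro g hg
    rw [vv_one0] at hg
    exact h.cent_t R hs hf hg
  rcases cases a ha with rfl | rfl | rfl
  · exact h0 g hg
  · exact key _ h0 g hg
  · exact key _ (key _ h0) g hg

end grow

/-- **the core** with its letters -/
theorem Lets.exists_core (h : Lets t s w f d y) : ∃ C : Core K, Ru127.Sg.Rel C ∧
    C.L = closure ({s, w, f} : Set K) ∧ (∀ a, C.v a = vv t d a) ∧ C.U 1 1 = s ∧ (C.R.w : K) = w ∧ C.dk k0 = f := by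
  obtain ⟨R, hs, hw, hf, hR⟩ := SzL.exists_rel h.rel8 h.card_L
  let C : Core K :=
    { L := closure ({s, w, f} : Set K)
      R := R
      v := vv t d
      v_add := h.vv_add
      v_comm := fun a l hl => h.vv_L a hl
      v_notin := h.notin R
      cent := fun a ha g hg => h.cent R hs hf a ha g hg
      grow := fun c => h.grow R hs hf c }
  refine ⟨C, Ru127.Bridge.rel_of ?_, rfl, fun _ => rfl, hs, hw, hf⟩
  exact congrArg Subtype.val hR

/-- **every group isomorphic to the Rudvalis group has a core** -/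
theorem exists_core {K : Type*} [Group K] (h : Cfsg.Spor.IsoRu K) : ∃ C : Core K, Ru127.Sg.Rel C := by
  obtain ⟨t, s, w, f, d, y, hL⟩ := exists_lets h
  obtain ⟨C, hC, _⟩ := hL.exists_core
  exact ⟨C, hC⟩

end Cfsg.Agent.KFacts.Ru

end
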