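import Cfsg.Agent.KFacts.Ru.PackA
import Cfsg.Agent.OddHalf.D9.Ru.XfRes
import Cfsg.Agent.OddHalf.D8.RuFam.Facts
import Cfsg.Agent.OddHalf.D8.RuFam.BDef

-- merged: Cfsg.Agent.KFacts.Ru.PackB
section

/-!
# Packet P for the Rudvalis group: `Loc ⊤ (S * S) P1 R B E` on `RuOrder.H`
-/

set_option autoImplicit false
set_option maxRecDepth 100000
set_option exponentiation.threshold 5000

namespace Cfsg.Agent.KFacts.Ru.PackB

open Subgroup Cfsg.Agent.Lib Cfsg.Agent.SporadicB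
open Cfsg.Agent.RuD.Letters Cfsg.Agent.SporRec.TCUpperCert Cfsg.Agent.SporRec.R3.Kernel
open Cfsg.Agent.OddHalf.D9.Ru.XDef Cfsg.Agent.OddHalf.D9.Ru.XData Cfsg.Agent.OddHalf.D9.Ru.XChk
open Cfsg.Agent.OddHalf.D9.Ru.XR Cfsg.Agent.KFacts.Ru.PackA
open scoped commutatorElement

/-! ### commuting up to `z` -/

/-- `z` or `1` -/
noncomputable def zb (b : Bool) : RuOrder.H := bif b then S * S else 1

theorem zb_xor (a b : Bool) : zb (xor a b) = zb a * zb b := by
  cases a <;> cases b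
  · exact (mul_one _).symm
  · exact (one_mul _).symm
  · exact (mul_one _).symm
  · exact zz.symm

theorem zb_comm {x : RuOrder.H} (hx : x ∈ P1) (b : Bool) : x * zb b = zb b * x := by
  cases b
  · exact (mul_one x).trans (one_mul x).symm
  · exact z_comm x hx

/-- `x e = z^b e x` -/
def Tw (x e : RuOrder.H) (b : Bool) : Prop := x * e = zb b * e * x

theorem Tw.mul {x y e : RuOrder.H} {a b : Bool} (hx : x ∈ P1) (h1 : Tw x e a) (h2 : Tw y e b) :
    Tw (x * y) e (xor a b) := by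
  unfold Tw at h1 h2 ⊢
  calc x * y * e = x * (zb b * e * y) := by rw [mul_assoc, h2]
    _ = x * zb b * e * y := by group
    _ = zb b * (x * e) * y := by rw [zb_comm hx]; group
    _ = zb b * zb a * e * (x * y) := by rw [h1]; group
    _ = _ := by rw [zb_xor, zb_comm]; cases b <;> [exact one_mem _; exact mul_mem S_mem S_mem]

theorem Tw.bif {g e : RuOrder.H} {d : Bool} (h : Tw g e d) (c : Bool) : Tw (bif c then g else 1) e (c && d) := by
  cases c
  · unfold Tw
    change 1 * e = 1 * e * 1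
    group
  · exact h

theorem Tw.of_comm {g e : RuOrder.H} (h : g * e = e * g) : Tw g e false := by
  unfold Tw
  rw [h]
  change e * g = 1 * e * g
  rw [one_mul]

theorem z1 : S * S ≠ (1 : RuOrder.H) := by
  rw [← em_z]
  exact em_ne (by norm_num) (by norm_num)

theorem Tw.false_iff {x e : RuOrder.H} {b : Bool} (h : Tw x e b) : b = false ↔ x * e = e * x := by
  unfold Tw at h
  cases b
  · change x * e = 1 * e * x at h
    rw [one_mul] at h
    exact ⟨fun _ => h, fun _ => rfl⟩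
  · refine ⟨fun h1 => absurd h1 (by simp), fun h1 => ?_⟩
    exfalso
    change x * e = S * S * e * x at h
    rw [h1, mul_assoc (S * S)] at h
    exact z1 (mul_eq_right.1 h.symm)

/-- the generators of `R` modulo `B` -/
def rl : List ℕ := [0, 2, 3, 4]

/-- the masks of the dual elements -/
def dl : List ℕ := [8, 3, 4, 1]

theorem chk_dual : ∀ i < 4, ∀ j < 4, eqw (gg ([rl.getD i 0] ++ msk (dl.getD j 0)))
    (gg (zp (bif Nat.beq i j then 1 else 0) ++ (msk (dl.getD j 0) ++ [rl.getD i 0]))) = true := by decide +kernel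

theorem G_zp (b : Bool) : G (zp (bif b then 1 else 0)) = zb b := by
  cases b
  · rfl
  · exact z_eq

theorem tw_dual {i j : ℕ} (hi : i < 4) (hj : j < 4) : Tw (G [rl.getD i 0]) (PackA.em (dl.getD j 0)) (Nat.beq i j) := by
  have h := eqw_sound (chk_dual i hi j hj)
  change G ([rl.getD i 0] ++ msk (dl.getD j 0)) = G (zp (bif Nat.beq i j then 1 else 0) ++
    (msk (dl.getD j 0) ++ [rl.getD i 0])) at h
  rw [G_append, G_append, G_append, G_zp] at h
  unfold Tw
  rw [mul_assoc]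
  exact h

theorem Gr_mem {i : ℕ} (hi : i < 4) : G [rl.getD i 0] ∈ R := by
  interval_cases i <;> exact G_mem_R (by decide)

/-- the pairing with the dual elements -/
theorem nf_tw {c1 c2 c3 c4 : Bool} {b : RuOrder.H} (hb : b ∈ B) {j : ℕ} (hj : j < 4) :
    Tw ((bif c1 then G [0] else 1) * (bif c2 then G [2] else 1) * (bif c3 then G [3] else 1) *
      (bif c4 then G [4] else 1) * b) (PackA.em (dl.getD j 0)) ([c1, c2, c3, c4].getD j false) := by
  have hP : ∀ (c : Bool) {i : ℕ}, i < 4 → (bif c then G [rl.getD i 0] else 1) ∈ P1 := by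
    intro c i hi
    cases c
    · exact one_mem _
    · exact OddHalf.D9.Ru.XR.R_le (Gr_mem hi)
  have t := fun (c : Bool) {i : ℕ} (hi : i < 4) => (tw_dual hi hj).bif c
  have h0 := hP c1 (i := 0) (by norm_num)
  have h1 := hP c2 (i := 1) (by norm_num)
  have h2 := hP c3 (i := 2) (by norm_num)
  have h3 := hP c4 (i := 3) (by norm_num)
  have hbt : Tw b (PackA.em (dl.getD j 0)) false := Tw.of_comm (B_comm b hb _ (em_mem _))
  have key := Tw.mul (mul_mem (mul_mem (mul_mem h0 h1) h2) h3) (Tw.mul (mul_mem (mul_mem h0 h1) h2)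
    (Tw.mul (mul_mem h0 h1) (Tw.mul h0 (t c1 (i := 0) (by norm_num)) (t c2 (i := 1) (by norm_num)))
      (t c3 (i := 2) (by norm_num))) (t c4 (i := 3) (by norm_num))) hbt
  have e : (xor (xor (xor (xor (c1 && Nat.beq 0 j) (c2 && Nat.beq 1 j)) (c3 && Nat.beq 2 j)) (c4 && Nat.beq 3 j))
      false) = [c1, c2, c3, c4].getD j false := by
    interval_cases j <;> cases c1 <;> cases c2 <;> cases c3 <;> cases c4 <;> rfl
  rw [e] at key
  exact key

/-! ### `B = C(E)` -/

/-- an element of `R` commuting with the dual elements lies in `B` -/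
theorem mem_B_of_R {r : RuOrder.H} (hr : r ∈ R) (h : ∀ j < 4, r * PackA.em (dl.getD j 0) = PackA.em (dl.getD j 0) * r) : r ∈ B := by
  obtain ⟨c1, c2, c3, c4, b, hb, rfl⟩ := R_nf r hr
  have k : ∀ j < 4, [c1, c2, c3, c4].getD j false = false := fun j hj => (nf_tw hb hj).false_iff.2 (h j hj)
  have k1 : c1 = false := k 0 (by norm_num)
  have k2 : c2 = false := k 1 (by norm_num)
  have k3 : c3 = false := k 2 (by norm_num)
  have k4 : c4 = false := k 3 (by norm_num)
  subst k1 k2 k3 k4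
  change 1 * 1 * 1 * 1 * b ∈ B
  simpa using hb

theorem R_em {r : RuOrder.H} (hr : r ∈ R) (m : ℕ) : r * PackA.em m * r⁻¹ = PackA.em m ∨ r * PackA.em m * r⁻¹ = PackA.em (26 ^^^ m) := by
  rcases comm_RE r hr (PackA.em m) (em_mem m) with h | h
  · left
    rw [commutatorElement_def] at h
    exact mul_inv_eq_one.1 h
  · right
    rw [em_xor, em_z, ← h, commutatorElement_def]
    group

theorem A_triv : ∀ j < 60, j = 0 ∨ ∃ i < 5, acw (aw.getD j []) (2 ^ i) ≠ 2 ^ i ∧
    26 ^^^ acw (aw.getD j []) (2 ^ i) ≠ 2 ^ i := by decide +kernel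

theorem hA_triv : ∀ j < 60, ∃ i < 5, lin tbh (acw (aw.getD j []) (2 ^ i)) ≠ 2 ^ i ∧
    26 ^^^ lin tbh (acw (aw.getD j []) (2 ^ i)) ≠ 2 ^ i := by decide +kernel

theorem acw_lt : ∀ j < 60, ∀ i < 5, acw (aw.getD j []) (2 ^ i) < 32 ∧
    lin tbh (acw (aw.getD j []) (2 ^ i)) < 32 := by decide +kernel

theorem aw_lt : ∀ j < 60, ((aw.getD j []).all fun a => Nat.blt a 6) = true := by decide +kernel

theorem em_cases {m n : ℕ} (hm : m < 32) (hn : n < 32) (h1 : m ≠ n) (h2 : 26 ^^^ m ≠ n) {x : RuOrder.H}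
    (hx : x = PackA.em m ∨ x = PackA.em (26 ^^^ m)) (h : x = em n) : False := by
  rcases hx with hx | hx
  · exact h1 (em_inj hm hn (hx.symm.trans h))
  · exact h2 (em_inj (Nat.xor_lt_two_pow (n := 5) (by norm_num) hm) hn (hx.symm.trans h))

theorem cen_E {k : RuOrder.H} (h : ∀ e ∈ E, k * e = e * k) : k ∈ B := by
  have hz : k ∈ centralizer ({S * S} : Set RuOrder.H) := by
    rw [mem_centralizer_singleton_iff, ← em_z]
    exact h _ (em_mem _)
  have hk : ∀ m, k * PackA.em m * k⁻¹ = PackA.em m := fun m => by rw [h _ (em_mem m), mul_inv_cancel_right]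
  rw [← Cfsg.Agent.OddHalf.D9.Ru.XCover.M_eq, Cfsg.Agent.OddHalf.D9.Ru.XCover.mem_M] at hz
  rcases hz with hp | hp
  · obtain ⟨r, hr, a, ha, rfl⟩ := Cfsg.Agent.OddHalf.D9.Ru.XR.cover k hp
    obtain ⟨j, hj, rfl⟩ := mem_A a ha
    rcases A_triv j hj with rfl | ⟨i, hi, h1, h2⟩
    · have e : r * V (aw.getD 0 []) = r := mul_one r
      rw [e]
      rw [e] at h
      exact mem_B_of_R hr fun j _ => h _ (em_mem _)
    · exfalso
      have h3 := hk (2 ^ i)
      have e : r * V (aw.getD j []) * PackA.em (2 ^ i) * (r * V (aw.getD j []))⁻¹ =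
          r * (V (aw.getD j []) * PackA.em (2 ^ i) * (V (aw.getD j []))⁻¹) * r⁻¹ := by group
      rw [e, word_em (aw_lt j hj)] at h3
      have hi2 : 2 ^ i < 32 := by interval_cases i <;> norm_num
      exact em_cases (acw_lt j hj i hi).1 hi2 h1 h2 (R_em hr _) h3
  · exfalso
    obtain ⟨r, hr, a, ha, e0⟩ := Cfsg.Agent.OddHalf.D9.Ru.XR.cover _ hp
    obtain ⟨j, hj, rfl⟩ := mem_A a ha
    obtain ⟨i, hi, h1, h2⟩ := hA_triv j hj
    have h3 := hk (2 ^ i)
    have ek : k = Cfsg.Agent.OddHalf.D9.Ru.XCover.h * (r * V (aw.getD j [])) := by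
      rw [← e0, ← mul_assoc, Cfsg.Agent.OddHalf.D9.Ru.XCover.hh, one_mul]
    have e : k * PackA.em (2 ^ i) * k⁻¹ = Cfsg.Agent.OddHalf.D9.Ru.XCover.h *
        (r * (V (aw.getD j []) * PackA.em (2 ^ i) * (V (aw.getD j []))⁻¹) * r⁻¹) *
        (Cfsg.Agent.OddHalf.D9.Ru.XCover.h)⁻¹ := by rw [ek]; group
    rw [e, word_em (aw_lt j hj)] at h3
    have hi2 : 2 ^ i < 32 := by interval_cases i <;> norm_num
    have h4 : Cfsg.Agent.OddHalf.D9.Ru.XCover.h * (r * PackA.em (acw (aw.getD j []) (2 ^ i)) * r⁻¹) *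
        (Cfsg.Agent.OddHalf.D9.Ru.XCover.h)⁻¹ = PackA.em (lin tbh (acw (aw.getD j []) (2 ^ i))) ∨
        Cfsg.Agent.OddHalf.D9.Ru.XCover.h * (r * PackA.em (acw (aw.getD j []) (2 ^ i)) * r⁻¹) *
        (Cfsg.Agent.OddHalf.D9.Ru.XCover.h)⁻¹ = PackA.em (26 ^^^ lin tbh (acw (aw.getD j []) (2 ^ i))) := by
      rcases R_em hr (acw (aw.getD j []) (2 ^ i)) with h5 | h5
      · left; rw [h5, h_em]
      · right
        rw [h5, em_xor, em_xor, em_z, ← h_em]
        have hzc : Cfsg.Agent.OddHalf.D9.Ru.XCover.h * (S * S) = S * S * Cfsg.Agent.OddHalf.D9.Ru.XCover.h :=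
          Cfsg.Agent.OddHalf.D9.Ru.XCover.hz_comm
        rw [← mul_assoc, hzc]
        group
    exact em_cases (acw_lt j hj i hi).2 hi2 h1 h2 h4 h3

/-! ### the centre of `R` -/

theorem chk_ZR : ∀ m < 32, m = 0 ∨ m = 26 ∨ ∃ i < 6, eqw (gg (msk m ++ [i])) (gg ([i] ++ msk m)) = false := by
  decide +kernel

theorem ZR : ∀ e ∈ E, (∀ r ∈ R, e * r = r * e) → e = 1 ∨ e = S * S := by
  intro e he h
  obtain ⟨m, hm, rfl⟩ := exists_em e he
  rcases chk_ZR m hm with rfl | rfl | ⟨i, hi, h1⟩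
  · left; rfl
  · right; exact em_z
  · exfalso
    have h2 := ne_of_eqw h1
    change G (msk m ++ [i]) ≠ G ([i] ++ msk m) at h2
    rw [G_append, G_append] at h2
    exact h2 (h (G [i]) (subset_closure ⟨i, by omega, rfl⟩))

/-! ### `P1` centralises `B / E` -/

/-- the commutators of the letters with `j₁`, `j₂` -/
def bp : List (List ℕ) := [[0, 27], [2, 24], [2, 14], [15, 31]]

theorem chk_bp : ∀ g < 4, eqw (g :: gg [0, 1, 3]) (gg (msk ((bp.getD g []).getD 0 0) ++ [0, 1, 3]) ++ [g]) = true ∧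
    eqw (g :: gg [1, 4, 5]) (gg (msk ((bp.getD g []).getD 1 0) ++ [1, 4, 5]) ++ [g]) = true := by decide +kernel

theorem BP : ∀ b ∈ B, ∀ p ∈ P1, p * b * p⁻¹ * b⁻¹ ∈ E := by
  have one : ∀ g < 4, ∀ b ∈ B, V [g] * b * (V [g])⁻¹ * b⁻¹ ∈ E := by
    intro g hg b hb
    have hb' : b ∈ closure (gE ∪ {G [0, 1, 3], G [1, 4, 5]}) := hb
    clear hb
    induction hb' using closure_induction with
    | mem x hx =>
      rcases hx with hx | hx
      · have hxE : x ∈ E := subset_closure hx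
        exact mul_mem (E_nor _ (V_mem _) _ hxE) (inv_mem hxE)
      · simp only [Set.mem_insert_iff, Set.mem_singleton_iff] at hx
        have h := chk_bp g hg
        rcases hx with rfl | rfl
        · have h1 := eqw_sound h.1
          change V (g :: gg [0, 1, 3]) = V (gg (msk ((bp.getD g []).getD 0 0) ++ [0, 1, 3]) ++ [g]) at h1
          rw [V_cons, V_append] at h1
          change V [g] * G [0, 1, 3] = G (msk ((bp.getD g []).getD 0 0) ++ [0, 1, 3]) * V [g] at h1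
          rw [G_append] at h1
          rw [h1]
          have e : G (msk ((bp.getD g []).getD 0 0)) * G [0, 1, 3] * V [g] * (V [g])⁻¹ * (G [0, 1, 3])⁻¹ =
            PackA.em ((bp.getD g []).getD 0 0) := by rw [PackA.em]; group
          rw [e]
          exact em_mem _
        · have h1 := eqw_sound h.2
          change V (g :: gg [1, 4, 5]) = V (gg (msk ((bp.getD g []).getD 1 0) ++ [1, 4, 5]) ++ [g]) at h1
          rw [V_cons, V_append] at h1
          change V [g] * G [1, 4, 5] = G (msk ((bp.getD g []).getD 1 0) ++ [1, 4, 5]) * V [g] at h1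
          rw [G_append] at h1
          rw [h1]
          have e : G (msk ((bp.getD g []).getD 1 0)) * G [1, 4, 5] * V [g] * (V [g])⁻¹ * (G [1, 4, 5])⁻¹ =
            PackA.em ((bp.getD g []).getD 1 0) := by rw [PackA.em]; group
          rw [e]
          exact em_mem _
    | one => simpa using one_mem E
    | mul x y hx hy ihx ihy =>
      have e : V [g] * (x * y) * (V [g])⁻¹ * (x * y)⁻¹ =
        (V [g] * x * (V [g])⁻¹ * x⁻¹) * (x * (V [g] * y * (V [g])⁻¹ * y⁻¹) * x⁻¹) := by group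
      rw [e]
      have hxB : x ∈ B := hx
      exact mul_mem ihx (E_nor _ (Cfsg.Agent.OddHalf.D9.Ru.XR.R_le (B_le_R hxB)) _ ihy)
    | inv x hx ihx =>
      have e : V [g] * x⁻¹ * (V [g])⁻¹ * x⁻¹⁻¹ = x⁻¹ * (V [g] * x * (V [g])⁻¹ * x⁻¹)⁻¹ * x⁻¹⁻¹ := by group
      rw [e]
      have hxB : x ∈ B := hx
      exact E_nor _ (inv_mem (Cfsg.Agent.OddHalf.D9.Ru.XR.R_le (B_le_R hxB))) _ (inv_mem ihx)
  intro b hb p hp
  have hp' : p ∈ closure ({S1, T, D, Y} : Set RuOrder.H) := hp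
  clear hp
  revert b
  induction hp' using closure_induction with
  | mem x hx =>
    intro b hb
    obtain ⟨g, hg, rfl⟩ := gen_eq hx
    exact one g hg b hb
  | one => intro b hb; simpa using one_mem E
  | mul x y hx hy ihx ihy =>
    intro b hb
    have e : x * y * b * (x * y)⁻¹ * b⁻¹ = (x * (y * b * y⁻¹ * b⁻¹) * x⁻¹) * (x * b * x⁻¹ * b⁻¹) := by group
    rw [e]
    exact mul_mem (E_nor _ hx _ (ihy b hb)) (ihx b hb)
  | inv x hx ihx =>
    intro b hb
    have e : x⁻¹ * b * x⁻¹⁻¹ * b⁻¹ = x⁻¹ * (x * b * x⁻¹ * b⁻¹)⁻¹ * x⁻¹⁻¹ := by group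
    rw [e]
    exact E_nor _ (inv_mem hx) _ (inv_mem (ihx b hb))

/-! ### commutators in `B` -/

/-- `⟨z⟩` -/
noncomputable def Zg : Subgroup RuOrder.H where
  carrier := {x | x = 1 ∨ x = S * S}
  one_mem' := Or.inl rfl
  mul_mem' := by
    rintro x y (rfl | rfl) (rfl | rfl)
    · exact Or.inl (mul_one _)
    · exact Or.inr (one_mul _)
    · exact Or.inr (mul_one _)
    · exact Or.inl zz
  inv_mem' := by
    rintro x (rfl | rfl)
    · exact Or.inl inv_one
    · exact Or.inr (inv_eq_of_mul_eq_one_right zz)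

theorem mem_Zg {x : RuOrder.H} : x ∈ Zg ↔ x = 1 ∨ x = S * S := Iff.rfl

theorem chk_jj : eqw (gg ([0, 1, 3] ++ [1, 4, 5])) (gg ([7, 9, 10] ++ ([1, 4, 5] ++ [0, 1, 3]))) = true := by
  decide +kernel

theorem BB : ∀ b ∈ B, ∀ c ∈ B, ⁅b, c⁆ ∈ Zg := by
  have hj : ⁅G [0, 1, 3], G [1, 4, 5]⁆ = S * S := by
    have h := eqw_sound chk_jj
    change G ([0, 1, 3] ++ [1, 4, 5]) = G ([7, 9, 10] ++ ([1, 4, 5] ++ [0, 1, 3])) at h
    rw [G_append, G_append, G_append, z_eq] at h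
    rw [commutatorElement_def, h]
    group
  have hj' : ⁅G [1, 4, 5], G [0, 1, 3]⁆ = S * S := by
    rw [← commutatorElement_inv, hj]
    exact inv_eq_of_mul_eq_one_right zz
  refine Cfsg.Agent.OddHalf.D9.Ru.XAbs.comm_mem (t := gE ∪ {G [0, 1, 3], G [1, 4, 5]}) rfl ?_ ?_
  · rintro g hg x (rfl | rfl)
    · left; group
    · right
      rw [z_comm g (Cfsg.Agent.OddHalf.D9.Ru.XR.R_le (B_le_R hg)), mul_inv_cancel_right]
  · have hE : ∀ x ∈ gE, ∀ y ∈ B, ⁅x, y⁆ = 1 := fun x hx y hy =>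
      commutatorElement_eq_one_iff_mul_comm.2 (B_comm y hy x (subset_closure hx)).symm
    rintro x (hx | hx) y hy
    · left
      exact hE x hx y (subset_closure hy)
    · rcases hy with hy | hy
      · left
        exact commutatorElement_eq_one_iff_mul_comm.2 (B_comm x (subset_closure (Or.inr hx)) y (subset_closure hy))
      · simp only [Set.mem_insert_iff, Set.mem_singleton_iff] at hx hy
        rcases hx with rfl | rfl <;> rcases hy with rfl | rfl
        · left; exact commutatorElement_self _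
        · right; exact hj
        · right; exact hj'
        · left; exact commutatorElement_self _

end Cfsg.Agent.KFacts.Ru.PackB

end

-- merged: Cfsg.Agent.KFacts.Ru.PackC
section

/-!
# Packet P for the Rudvalis group, second part: `Loc ⊤ (S * S) P1 R B E` on `RuOrder.H`
-/

set_option autoImplicit false
set_option maxRecDepth 100000
set_option exponentiation.threshold 5000

namespace Cfsg.Agent.KFacts.Ru.PackC

open Subgroup Cfsg.Agent.Lib Cfsg.Agent.SporadicB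
open Cfsg.Agent.RuD.Letters Cfsg.Agent.SporRec.TCUpperCert Cfsg.Agent.SporRec.R3.Kernel
open Cfsg.Agent.OddHalf.D9.Ru.XDef Cfsg.Agent.OddHalf.D9.Ru.XData Cfsg.Agent.OddHalf.D9.Ru.XChk
open Cfsg.Agent.OddHalf.D9.Ru.XR Cfsg.Agent.KFacts.Ru.PackA Cfsg.Agent.KFacts.Ru.PackB
open Cfsg.Agent.OddHalf.D9.Ru
open scoped commutatorElement

/-! ### the derived group -/

theorem G_R {i : ℕ} (hi : i < 11) : G [i] ∈ XR.R := subset_closure ⟨i, hi, rfl⟩

theorem chk_cm' : ∀ i < 6, ∀ j < 6, eqw (gg [i, j]) (gg (cmE i j ++ [j, i])) = true := chk_cm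

theorem comm_gen {i j : ℕ} (hi : i < 6) (hj : j < 6) : ⁅G [i], G [j]⁆ = G (cmE i j) := by
  have h := eqw_sound (chk_cm i hi j hj)
  change G [i, j] = G (cmE i j ++ [j, i]) at h
  rw [G_append, G_two, G_two] at h
  rw [commutatorElement_def, h]
  group

theorem RR_mem {i j : ℕ} (hi : i < 6) (hj : j < 6) : G (cmE i j) ∈ ⁅XR.R, XR.R⁆ := by
  rw [← comm_gen hi hj]
  exact commutator_mem_commutator (G_R (by omega)) (G_R (by omega))

theorem RR : ⁅XR.R, XR.R⁆ = XR.E := by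
  refine le_antisymm XR.RR ?_
  have m1 : G [6, 7, 9, 10] ∈ ⁅XR.R, XR.R⁆ := RR_mem (i := 0) (j := 1) (by norm_num) (by norm_num)
  have m3 : G [6, 9, 10] ∈ ⁅XR.R, XR.R⁆ := RR_mem (i := 0) (j := 3) (by norm_num) (by norm_num)
  have m4 : G [6, 7, 10] ∈ ⁅XR.R, XR.R⁆ := RR_mem (i := 0) (j := 4) (by norm_num) (by norm_num)
  have m5 : G [6, 7, 9] ∈ ⁅XR.R, XR.R⁆ := RR_mem (i := 0) (j := 5) (by norm_num) (by norm_num)
  have m8 : G [8, 9, 10] ∈ ⁅XR.R, XR.R⁆ := RR_mem (i := 1) (j := 2) (by norm_num) (by norm_num)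
  have k1 : PackA.em 27 ∈ ⁅XR.R, XR.R⁆ := m1
  have k3 : PackA.em 25 ∈ ⁅XR.R, XR.R⁆ := m3
  have k4 : PackA.em 19 ∈ ⁅XR.R, XR.R⁆ := m4
  have k5 : PackA.em 11 ∈ ⁅XR.R, XR.R⁆ := m5
  have k8 : PackA.em 28 ∈ ⁅XR.R, XR.R⁆ := m8
  have e7 : PackA.em 2 ∈ ⁅XR.R, XR.R⁆ := by
    rw [show 2 = 27 ^^^ 25 by rfl, em_xor]; exact mul_mem k1 k3
  have e9 : PackA.em 8 ∈ ⁅XR.R, XR.R⁆ := by
    rw [show 8 = 27 ^^^ 19 by rfl, em_xor]; exact mul_mem k1 k4
  have e10 : PackA.em 16 ∈ ⁅XR.R, XR.R⁆ := by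
    rw [show 16 = 27 ^^^ 11 by rfl, em_xor]; exact mul_mem k1 k5
  have e6 : PackA.em 1 ∈ ⁅XR.R, XR.R⁆ := by
    rw [show 1 = 25 ^^^ (8 ^^^ 16) by rfl, em_xor, em_xor 8]; exact mul_mem k3 (mul_mem e9 e10)
  have e8 : PackA.em 4 ∈ ⁅XR.R, XR.R⁆ := by
    rw [show 4 = 28 ^^^ (8 ^^^ 16) by rfl, em_xor, em_xor 8]; exact mul_mem k8 (mul_mem e9 e10)
  rw [XR.E, closure_le]
  rintro x ⟨i, hi, rfl⟩
  interval_cases i
  · exact e6
  · exact e7
  · exact e8
  · exact e9
  · exact e10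

/-! ### `[R, P1] = R` -/

theorem conj_G {g i : ℕ} (hg : g < 4) (hi : i < 11) : V [g] * G [i] * (V [g])⁻¹ = G (ctE g i) := conj_eq hg hi

theorem RRP : XR.R ≤ ⁅XR.R, P1⁆ := by
  have hE : XR.E ≤ ⁅XR.R, P1⁆ := by
    rw [← RR]
    exact commutator_mono le_rfl XR.R_le
  have cm : ∀ r ∈ XR.R, ∀ p ∈ P1, p * r * p⁻¹ * r⁻¹ ∈ ⁅XR.R, P1⁆ := by
    intro r hr p hp
    have h := commutator_mem_commutator hr hp
    have e : p * r * p⁻¹ * r⁻¹ = ⁅r, p⁆⁻¹ := by rw [commutatorElement_def]; group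
    rw [e]
    exact inv_mem h
  have step : ∀ r ∈ XR.R, r ∈ ⁅XR.R, P1⁆ → ∀ p ∈ P1, p * r * p⁻¹ ∈ ⁅XR.R, P1⁆ := by
    intro r hr h p hp
    have e : p * r * p⁻¹ = p * r * p⁻¹ * r⁻¹ * r := by group
    rw [e]
    exact mul_mem (cm r hr p hp) h
  have g0 : G [0] ∈ ⁅XR.R, P1⁆ := by
    have h1 := cm (G [2]) (G_R (by norm_num)) (V [0]) (V_mem _)
    rw [conj_G (by norm_num) (by norm_num)] at h1
    change G [0, 2, 6, 7, 8, 9, 10] * (G [2])⁻¹ ∈ _ at h1
    rw [G_cons 0 [2, 6, 7, 8, 9, 10], G_cons 2 [6, 7, 8, 9, 10]] at h1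
    have hx : G [2] * G [6, 7, 8, 9, 10] * (G [2])⁻¹ ∈ ⁅XR.R, P1⁆ :=
      hE (E_nor _ (XR.R_le (G_R (by norm_num))) _ (em_mem 31))
    have e : G [0] = G [0] * (G [2] * G [6, 7, 8, 9, 10]) * (G [2])⁻¹ * (G [2] * G [6, 7, 8, 9, 10] * (G [2])⁻¹)⁻¹ := by
      group
    rw [e]
    exact mul_mem h1 (inv_mem hx)
  have g1 : G [1] ∈ ⁅XR.R, P1⁆ := by
    have h := step _ (G_R (by norm_num)) g0 (V [2]) (V_mem _)
    rw [conj_G (by norm_num) (by norm_num)] at h
    exact h
  have g3 : G [3] ∈ ⁅XR.R, P1⁆ := by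
    have h := step _ (G_R (by norm_num)) g1 (V [2]) (V_mem _)
    rw [conj_G (by norm_num) (by norm_num)] at h
    exact h
  have g2 : G [2] ∈ ⁅XR.R, P1⁆ := by
    have h := step _ (G_R (by norm_num)) g0 (V [3]) (V_mem _)
    rw [conj_G (by norm_num) (by norm_num)] at h
    exact h
  have g4 : G [4] ∈ ⁅XR.R, P1⁆ := by
    have h := step _ (G_R (by norm_num)) g1 (V [3]) (V_mem _)
    rw [conj_G (by norm_num) (by norm_num)] at h
    exact h
  have g5 : G [5] ∈ ⁅XR.R, P1⁆ := by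
    have h := step _ (G_R (by norm_num)) g4 (V [0]) (V_mem _)
    rw [conj_G (by norm_num) (by norm_num)] at h
    exact h
  conv_lhs => unfold XR.R
  rw [closure_le]
  rintro x ⟨i, hi, rfl⟩
  rcases lt_or_ge i 6 with h | h
  · interval_cases i
    · exact g0
    · exact g1
    · exact g2
    · exact g3
    · exact g4
    · exact g5
  · obtain ⟨j, rfl⟩ : ∃ j, i = j + 6 := ⟨i - 6, by omega⟩
    exact hE (subset_closure ⟨j, by omega, rfl⟩)

/-! ### the homomorphisms `R / B → E / z` -/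

theorem chk_p2 : eqw ([5, 0, 2] ++ gg [0]) (gg [0] ++ [5, 0, 2]) = true := by decide +kernel
theorem chk_p1 : eqw ([0] ++ gg [0]) (gg [0] ++ [0]) = true := by decide +kernel

theorem chk_h4 : ∀ m < 32, (acw [0] m ≠ m ∧ acw [0] m ≠ 26 ^^^ m) ∨ (acw [5, 0, 2] m ≠ m ∧
    acw [5, 0, 2] m ≠ 26 ^^^ m) ∨ m = 0 ∨ m = 26 ∨ m = 2 ∨ m = 24 ∨ m = 3 ∨ m = 25 ∨ m = 1 ∨ m = 27 := by decide +kernel

theorem acw_lt' : ∀ m < 32, acw [0] m < 32 ∧ acw [5, 0, 2] m < 32 := by decide +kernel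

theorem chk_b1 : eqw (gg ([0, 1, 3] ++ [0])) (gg (msk 2 ++ ([0] ++ [0, 1, 3]))) = true := by decide +kernel
theorem chk_b2 : eqw (gg ([1, 4, 5] ++ [0])) (gg (msk 3 ++ ([0] ++ [1, 4, 5]))) = true := by decide +kernel
theorem chk_b3 : eqw (gg (([0, 1, 3] ++ [1, 4, 5]) ++ [0])) (gg (msk 1 ++ ([0] ++ ([0, 1, 3] ++ [1, 4, 5])))) = true := by
  decide +kernel

theorem comm_b1 : G [0, 1, 3] * G [0] * (G [0, 1, 3])⁻¹ * (G [0])⁻¹ = PackA.em 2 := by
  have h := eqw_sound chk_b1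
  change G ([0, 1, 3] ++ [0]) = G (msk 2 ++ ([0] ++ [0, 1, 3])) at h
  rw [G_append, G_append, G_append] at h
  rw [h, PackA.em]
  group

theorem comm_b2 : G [1, 4, 5] * G [0] * (G [1, 4, 5])⁻¹ * (G [0])⁻¹ = PackA.em 3 := by
  have h := eqw_sound chk_b2
  change G ([1, 4, 5] ++ [0]) = G (msk 3 ++ ([0] ++ [1, 4, 5])) at h
  rw [G_append, G_append, G_append] at h
  rw [h, PackA.em]
  group

theorem comm_b3 : G [0, 1, 3] * G [1, 4, 5] * G [0] * (G [0, 1, 3] * G [1, 4, 5])⁻¹ * (G [0])⁻¹ = PackA.em 1 := by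
  have h := eqw_sound chk_b3
  change G (([0, 1, 3] ++ [1, 4, 5]) ++ [0]) = G (msk 1 ++ ([0] ++ ([0, 1, 3] ++ [1, 4, 5]))) at h
  rw [G_append, G_append, G_append, G_append, G_append] at h
  rw [h, PackA.em]
  group

theorem em_comm_cases {w : List ℕ} (hw : (w.all fun a => Nat.blt a 6) = true) {m : ℕ} (hm : m < 32)
    (hm' : acw w m < 32) (h : V w * PackA.em m * (V w)⁻¹ * (PackA.em m)⁻¹ = 1 ∨
      V w * PackA.em m * (V w)⁻¹ * (PackA.em m)⁻¹ = S * S) : acw w m = m ∨ acw w m = 26 ^^^ m := by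
  rw [word_em hw] at h
  rcases h with h | h
  · left
    exact em_inj hm' hm (mul_inv_eq_one.1 h)
  · right
    refine em_inj hm' (Nat.xor_lt_two_pow (n := 5) (by norm_num) hm) ?_
    rw [em_xor, em_z, ← h]
    group

theorem hom4 : ∃ r₁ ∈ XR.R, (∀ Q : Subgroup RuOrder.H, PackA.B ≤ Q → r₁ ∈ Q → (∀ p ∈ P1, ∀ q ∈ Q, p * q * p⁻¹ ∈ Q) →
      XR.R ≤ Q) ∧
    ∀ e ∈ XR.E, (∀ p ∈ P1, p * r₁ * p⁻¹ * r₁⁻¹ ∈ PackA.B → p * e * p⁻¹ * e⁻¹ = 1 ∨ p * e * p⁻¹ * e⁻¹ = S * S) →
      ∃ b ∈ PackA.B, b * r₁ * b⁻¹ * r₁⁻¹ = e ∨ b * r₁ * b⁻¹ * r₁⁻¹ = e * (S * S) := by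
  refine ⟨G [0], G_R (by norm_num), ?_, ?_⟩
  · intro Q hB h0 hn
    have h2 := hn (V [3]) (V_mem _) _ h0
    rw [conj_G (by norm_num) (by norm_num)] at h2
    have h1 := hn (V [2]) (V_mem _) _ h0
    rw [conj_G (by norm_num) (by norm_num)] at h1
    change G [1] ∈ Q at h1
    have h3 := hn (V [2]) (V_mem _) _ h1
    rw [conj_G (by norm_num) (by norm_num)] at h3
    have h4 := hn (V [3]) (V_mem _) _ h1
    rw [conj_G (by norm_num) (by norm_num)] at h4
    exact PackA.R_le Q hB h0 h2 h3 h4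
  · intro e he h
    obtain ⟨m, hm, rfl⟩ := exists_em e he
    have c1 := h (V [0]) (V_mem _) (by
      have h1 := eqw_sound chk_p1
      rw [V_append, V_append] at h1
      change V [0] * G [0] = G [0] * V [0] at h1
      rw [h1, mul_inv_cancel_right, mul_inv_cancel]
      exact one_mem _)
    have c2 := h (V [5, 0, 2]) (V_mem _) (by
      have h1 := eqw_sound chk_p2
      rw [V_append, V_append] at h1
      change V [5, 0, 2] * G [0] = G [0] * V [5, 0, 2] at h1
      rw [h1, mul_inv_cancel_right, mul_inv_cancel]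
      exact one_mem _)
    have d1 := em_comm_cases (by decide) hm (acw_lt' m hm).1 c1
    have d2 := em_comm_cases (by decide) hm (acw_lt' m hm).2 c2
    have b1 : G [0, 1, 3] ∈ PackA.B := j1_mem
    have b2 : G [1, 4, 5] ∈ PackA.B := j2_mem
    have x2 : PackA.em 2 = PackA.em 24 * (S * S) := by rw [← em_z, ← em_xor]; rfl
    have x3 : PackA.em 3 = PackA.em 25 * (S * S) := by rw [← em_z, ← em_xor]; rfl
    have x1 : PackA.em 1 = PackA.em 27 * (S * S) := by rw [← em_z, ← em_xor]; rfl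
    have x0 : PackA.em 0 = PackA.em 26 * (S * S) := by rw [← em_z, ← em_xor]; rfl
    have o : (1 : RuOrder.H) * G [0] * 1⁻¹ * (G [0])⁻¹ = PackA.em 0 := by rw [em_zero]; group
    rcases chk_h4 m hm with h1 | h1 | rfl | rfl | rfl | rfl | rfl | rfl | rfl | rfl
    · exact absurd d1 (by rintro (h2 | h2); exacts [h1.1 h2, h1.2 h2])
    · exact absurd d2 (by rintro (h2 | h2); exacts [h1.1 h2, h1.2 h2])
    · exact ⟨1, one_mem _, Or.inl o⟩
    · exact ⟨1, one_mem _, Or.inr (o.trans x0)⟩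
    · exact ⟨_, b1, Or.inl comm_b1⟩
    · exact ⟨_, b1, Or.inr (comm_b1.trans x2)⟩
    · exact ⟨_, b2, Or.inl comm_b2⟩
    · exact ⟨_, b2, Or.inr (comm_b2.trans x3)⟩
    · exact ⟨_, mul_mem b1 b2, Or.inl comm_b3⟩
    · exact ⟨_, mul_mem b1 b2, Or.inr (comm_b3.trans x1)⟩

/-! ### `{b ∈ B | [b, R] ≤ ⟨z⟩} = E` -/

theorem B_cases : ∀ b ∈ PackA.B, b ∈ XR.E ∨ (G [0, 1, 3])⁻¹ * b ∈ XR.E ∨ (G [1, 4, 5])⁻¹ * b ∈ XR.E ∨
    (G [0, 1, 3] * G [1, 4, 5])⁻¹ * b ∈ XR.E := by
  intro b hb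
  have h1 : G [0, 1, 3] ∈ XR.R := B_le_R j1_mem
  have h2 : G [1, 4, 5] ∈ XR.R := B_le_R j2_mem
  let M1 := adj XR.E XR.E XR.R (G [1, 4, 5]) le_rfl E_le_R h2 sq_R comm_R
  have l1 : XR.E ≤ M1 := le_adj _ _ _ _ _
  have k1 : M1 ≤ XR.R := adj_le _ _ _ _ _
  let M2 := adj XR.E M1 XR.R (G [0, 1, 3]) l1 k1 h1 sq_R comm_R
  have l2 : M1 ≤ M2 := le_adj _ _ _ _ _
  have hb2 : b ∈ M2 := by
    have : PackA.B ≤ M2 := by
      unfold PackA.B
      rw [closure_le]
      rintro x (hx | hx)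
      · exact l2 (l1 (subset_closure hx))
      · simp only [Set.mem_insert_iff, Set.mem_singleton_iff] at hx
        rcases hx with rfl | rfl
        · exact Or.inr (by change (G [0, 1, 3])⁻¹ * G [0, 1, 3] ∈ M1; rw [inv_mul_cancel]; exact one_mem _)
        · exact l2 (Or.inr (by change (G [1, 4, 5])⁻¹ * G [1, 4, 5] ∈ XR.E; rw [inv_mul_cancel]; exact one_mem _))
    exact this hb
  rcases hb2 with h | h
  · rcases h with h | h
    · exact Or.inl h
    · exact Or.inr (Or.inr (Or.inl h))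
  · rcases h with h | h
    · exact Or.inr (Or.inl h)
    · right; right; right
      have e : (G [0, 1, 3] * G [1, 4, 5])⁻¹ * b = (G [1, 4, 5])⁻¹ * ((G [0, 1, 3])⁻¹ * b) := by group
      rw [e]
      exact h

theorem BE : ∀ b ∈ PackA.B, (∀ r ∈ XR.R, b * r * b⁻¹ * r⁻¹ = 1 ∨ b * r * b⁻¹ * r⁻¹ = S * S) → b ∈ XR.E := by
  intro b hb h
  have key : ∀ (j : RuOrder.H) (m : ℕ), j ∈ PackA.B → m < 32 → m ≠ 0 → m ≠ 26 → j * G [0] * j⁻¹ * (G [0])⁻¹ = PackA.em m →
      j⁻¹ * b ∈ XR.E → False := by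
    intro j m hj hm hm0 hm26 h1 h2
    have h3 := h _ (G_R (i := 0) (by norm_num))
    set e := j⁻¹ * b with he
    have hb' : b = j * e := by rw [he, mul_inv_cancel_left]
    have h4 := comm_RE _ (G_R (i := 0) (by norm_num)) e h2
    have hjz : j * (S * S) = S * S * j := z_comm j (XR.R_le (B_le_R hj))
    have hEc : e * PackA.em m = PackA.em m * e := E_comm _ h2 _ (em_mem m)
    have e4 : b * G [0] * b⁻¹ * (G [0])⁻¹ = j * (e * G [0] * e⁻¹ * (G [0])⁻¹) * j⁻¹ * (j * G [0] * j⁻¹ * (G [0])⁻¹) := by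
      rw [hb']; group
    have e5 : e * G [0] * e⁻¹ * (G [0])⁻¹ = ⁅G [0], e⁆⁻¹ := by rw [commutatorElement_def]; group
    have hzi : (S * S)⁻¹ = S * S := inv_eq_of_mul_eq_one_right zz
    have e6 : j * (e * G [0] * e⁻¹ * (G [0])⁻¹) * j⁻¹ = 1 ∨ j * (e * G [0] * e⁻¹ * (G [0])⁻¹) * j⁻¹ = S * S := by
      rcases h4 with h4 | h4
      · left; rw [e5, h4]; group
      · right; rw [e5, h4, hzi, hjz, mul_inv_cancel_right]
    rw [e4, h1] at h3
    have z26 : ∀ x : RuOrder.H, (x = 1 ∨ x = S * S) → x = PackA.em 0 ∨ x = PackA.em 26 := fun x hx => by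
      rw [em_z, em_zero]; exact hx
    have h7 : PackA.em m = PackA.em 0 ∨ PackA.em m = PackA.em 26 := by
      rcases e6 with e6 | e6 <;> rw [e6] at h3
      · rw [one_mul] at h3
        exact z26 _ h3
      · rcases h3 with h3 | h3
        · right
          rw [em_z]
          have := eq_inv_of_mul_eq_one_right h3
          rw [this, hzi]
        · left
          rw [em_zero]
          exact mul_eq_left.1 h3
    rcases h7 with h7 | h7
    · exact hm0 (em_inj hm (by norm_num) h7)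
    · exact hm26 (em_inj hm (by norm_num) h7)
  rcases B_cases b hb with h1 | h1 | h1 | h1
  · exact h1
  · exact (key _ 2 j1_mem (by norm_num) (by norm_num) (by norm_num) comm_b1 h1).elim
  · exact (key _ 3 j2_mem (by norm_num) (by norm_num) (by norm_num) comm_b2 h1).elim
  · exact (key _ 1 (mul_mem j1_mem j2_mem) (by norm_num) (by norm_num) (by norm_num) comm_b3 h1).elim

end Cfsg.Agent.KFacts.Ru.PackC

end

-- merged: Cfsg.Agent.KFacts.Ru.PackD
section

/-!
# Packet P for the Rudvalis group, third part: `Loc ⊤ (S * S) P1 R B E` on `RuOrder.H`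
-/

set_option autoImplicit false
set_option maxRecDepth 100000
set_option exponentiation.threshold 5000

namespace Cfsg.Agent.KFacts.Ru.PackD

open Subgroup Cfsg.Agent.Lib Cfsg.Agent.SporadicB
open Cfsg.Agent.RuD.Letters Cfsg.Agent.SporRec.TCUpperCert Cfsg.Agent.SporRec.R3.Kernel
open Cfsg.Agent.OddHalf.D9.Ru.XDef Cfsg.Agent.OddHalf.D9.Ru.XData Cfsg.Agent.OddHalf.D9.Ru.XChk
open Cfsg.Agent.OddHalf.D9.Ru.XR Cfsg.Agent.KFacts.Ru.PackA Cfsg.Agent.KFacts.Ru.PackB Cfsg.Agent.KFacts.Ru.PackC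
open Cfsg.Agent.OddHalf.D9.Ru
open scoped commutatorElement

/-! ### the homomorphisms `R / B → ⟨z⟩` -/

theorem tw_em_mul {x : RuOrder.H} {m n : ℕ} {a b : Bool} (hx : x ∈ P1) (h1 : Tw x (PackA.em m) a)
    (h2 : Tw x (PackA.em n) b) : Tw x (PackA.em (m ^^^ n)) (xor a b) := by
  unfold Tw at h1 h2 ⊢
  rw [em_xor]
  have hm : PackA.em m * zb b = zb b * PackA.em m := zb_comm (XR.E_le (em_mem m)) b
  calc x * (PackA.em m * PackA.em n) = zb a * PackA.em m * (x * PackA.em n) := by rw [← mul_assoc, h1]; group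
    _ = zb a * (PackA.em m * zb b) * PackA.em n * x := by rw [h2]; group
    _ = zb (xor a b) * (PackA.em m * PackA.em n) * x := by rw [hm, zb_xor]; group

theorem tw_bifE {x : RuOrder.H} {m : ℕ} {d : Bool} (h : Tw x (PackA.em m) d) (c : Bool) :
    Tw x (PackA.em (bif c then m else 0)) (c && d) := by
  cases c
  · unfold Tw
    rw [cond_false, em_zero, Bool.false_and]
    change x * 1 = 1 * 1 * x
    group
  · exact h

/-- the element of `E` with prescribed commutators with the generators -/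
theorem exists_dual (c : ℕ → Bool) : ∃ e ∈ XR.E, ∀ i < 4, Tw (G [rl.getD i 0]) e (c i) := by
  refine ⟨PackA.em ((bif c 0 then dl.getD 0 0 else 0) ^^^ ((bif c 1 then dl.getD 1 0 else 0) ^^^
    ((bif c 2 then dl.getD 2 0 else 0) ^^^ (bif c 3 then dl.getD 3 0 else 0)))), em_mem _, fun i hi => ?_⟩
  have hP : G [rl.getD i 0] ∈ P1 := XR.R_le (Gr_mem hi)
  have t := fun {j : ℕ} (hj : j < 4) => tw_bifE (tw_dual hi hj) (c j)
  have key := tw_em_mul hP (t (j := 0) (by norm_num)) (tw_em_mul hP (t (j := 1) (by norm_num))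
    (tw_em_mul hP (t (j := 2) (by norm_num)) (t (j := 3) (by norm_num))))
  have e : (xor (c 0 && Nat.beq i 0) (xor (c 1 && Nat.beq i 1) (xor (c 2 && Nat.beq i 2) (c 3 && Nat.beq i 3)))) =
      c i := by
    interval_cases i
    · rw [show Nat.beq 0 0 = true from rfl, show Nat.beq 0 1 = false from rfl, show Nat.beq 0 2 = false from rfl,
        show Nat.beq 0 3 = false from rfl]; simp
    · rw [show Nat.beq 1 0 = false from rfl, show Nat.beq 1 1 = true from rfl, show Nat.beq 1 2 = false from rfl,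
        show Nat.beq 1 3 = false from rfl]; simp
    · rw [show Nat.beq 2 0 = false from rfl, show Nat.beq 2 1 = false from rfl, show Nat.beq 2 2 = true from rfl,
        show Nat.beq 2 3 = false from rfl]; simp
    · rw [show Nat.beq 3 0 = false from rfl, show Nat.beq 3 1 = false from rfl, show Nat.beq 3 2 = false from rfl,
        show Nat.beq 3 3 = true from rfl]; simp
  rw [e] at key
  exact key

theorem dual : ∀ Q ≤ XR.R, PackA.B ≤ Q → (∀ r ∈ XR.R, ∀ s ∈ XR.R, r ∉ Q → s ∉ Q → r * s ∈ Q) →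
    ∃ e ∈ XR.E, ∀ r ∈ XR.R, (r ∈ Q ↔ e * r = r * e) := by
  classical
  intro Q hQ hB hi
  obtain ⟨e, he, hc⟩ := exists_dual fun i => decide (G [rl.getD i 0] ∉ Q)
  refine ⟨e, he, ?_⟩
  -- `C_R(e)` has index at most two, too
  have hE : ∀ r ∈ XR.R, e * r = r * e ∨ r * e = S * S * (e * r) := by
    intro r hr
    rcases comm_RE r hr e he with h | h
    · left
      exact (commutatorElement_eq_one_iff_mul_comm.1 h).symm
    · right
      rw [commutatorElement_def] at h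
      rw [← h]; group
  have par : ∀ r ∈ XR.R, ∀ s ∈ XR.R, e * r ≠ r * e → e * s ≠ s * e → e * (r * s) = r * s * e := by
    intro r hr s hs h1 h2
    have h3 := (hE r hr).resolve_left h1
    have h4 := (hE s hs).resolve_left h2
    have hz := z_comm r (XR.R_le hr)
    calc e * (r * s) = (S * S * (S * S)) * (e * r) * s := by rw [zz]; group
      _ = (S * S) * (r * e) * s := by rw [h3]; group
      _ = r * (S * S) * e * s := by rw [hz]; group
      _ = r * (s * e) := by rw [h4]; group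
      _ = r * s * e := by group
  have mul1 : ∀ r ∈ XR.R, ∀ s ∈ XR.R, (r * s ∈ Q ↔ (r ∈ Q ↔ s ∈ Q)) := by
    intro r hr s hs
    by_cases h1 : r ∈ Q <;> by_cases h2 : s ∈ Q
    · simp [h1, h2, mul_mem]
    · simp only [h1, h2, iff_false, not_true_eq_false, iff_false]
      exact fun h => h2 (by simpa using mul_mem (inv_mem h1) h)
    · simp only [h1, h2, iff_true]
      constructor
      · intro h
        exact absurd (by simpa using mul_mem h (inv_mem h2)) h1
      · intro h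
        exact absurd h (by simp)
    · simp only [h1, h2, iff_true]
      exact hi r hr s hs h1 h2
  have mul2 : ∀ r ∈ XR.R, ∀ s ∈ XR.R, (e * (r * s) = r * s * e ↔ (e * r = r * e ↔ e * s = s * e)) := by
    intro r hr s hs
    by_cases h1 : e * r = r * e <;> by_cases h2 : e * s = s * e
    · simp only [h1, h2, iff_true]
      calc e * (r * s) = e * r * s := by group
        _ = r * (e * s) := by rw [h1]; group
        _ = r * s * e := by rw [h2]; group
    · refine iff_of_false (fun h => h2 ?_) (fun h => h2 (h.1 h1))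
      have h3 : r * (e * s) = r * (s * e) := by
        calc r * (e * s) = e * r * s := by rw [h1]; group
          _ = e * (r * s) := by group
          _ = r * (s * e) := by rw [h]; group
      exact mul_left_cancel h3
    · refine iff_of_false (fun h => h1 ?_) (fun h => h1 (h.2 h2))
      have h3 : e * r * s = r * e * s := by
        calc e * r * s = e * (r * s) := by group
          _ = r * (s * e) := by rw [h]; group
          _ = r * e * s := by rw [← h2]; group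
      exact mul_right_cancel h3
    · simp only [h1, h2, iff_true]
      exact par r hr s hs h1 h2
  let Q' : Subgroup RuOrder.H := {
    carrier := {r | r ∈ XR.R ∧ (r ∈ Q ↔ e * r = r * e)}
    one_mem' := ⟨one_mem _, by simp [one_mem]⟩
    mul_mem' := by
      rintro r s ⟨hr, h1⟩ ⟨hs, h2⟩
      refine ⟨mul_mem hr hs, ?_⟩
      rw [mul1 r hr s hs, mul2 r hr s hs, h1, h2]
    inv_mem' := by
      rintro r ⟨hr, h1⟩
      refine ⟨inv_mem hr, ?_⟩
      rw [inv_mem_iff, h1]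
      constructor
      · intro h
        calc e * r⁻¹ = r⁻¹ * (r * e) * r⁻¹ := by group
          _ = r⁻¹ * (e * r) * r⁻¹ := by rw [h]
          _ = r⁻¹ * e := by group
      · intro h
        calc e * r = r * (r⁻¹ * e) * r := by group
          _ = r * (e * r⁻¹) * r := by rw [h]
          _ = r * e := by group }
  have hQ' : XR.R ≤ Q' := by
    have gen : ∀ i < 4, G [rl.getD i 0] ∈ Q' := by
      intro i hi4
      refine ⟨Gr_mem hi4, ?_⟩
      have h := (hc i hi4).false_iff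
      rw [eq_comm (a := e * _), ← h]
      simp
    refine PackA.R_le Q' ?_ (gen 0 (by norm_num)) (gen 1 (by norm_num)) (gen 2 (by norm_num)) (gen 3 (by norm_num))
    intro b hb
    exact ⟨B_le_R hb, ⟨fun _ => (B_comm b hb e he).symm, fun _ => hB hb⟩⟩
  intro r hr
  exact (hQ' hr).2

/-! ### the element of order 5 -/

/-- `m`, `a m a⁻¹`, .. -/
def ia (m : ℕ) (k : ℕ) : ℕ := (List.replicate k 0).foldr (fun _ x => acw [0, 2, 3] x) m

/-- combination of `z`, `m`, `a m a⁻¹`, `a² m a⁻²`, `a³ m a⁻³` -/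
def cb (m c : ℕ) : ℕ := (bif c.testBit 0 then 26 else 0) ^^^ ((bif c.testBit 1 then m else 0) ^^^
  ((bif c.testBit 2 then ia m 1 else 0) ^^^ ((bif c.testBit 3 then ia m 2 else 0) ^^^
    (bif c.testBit 4 then ia m 3 else 0))))

theorem chk_irr : ∀ m < 32, m = 0 ∨ m = 26 ∨ ∀ j < 5, ∃ c < 32, cb m c = 2 ^ j := by decide +kernel

theorem chk_a5 : eqw ([0, 2, 3] ++ ([0, 2, 3] ++ ([0, 2, 3] ++ ([0, 2, 3] ++ [0, 2, 3])))) [] = true := by
  decide +kernel

theorem chk_a1 : eqw [0, 2, 3] [] = false := by decide +kernel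

theorem chk_n : eqv (XCover.hw ++ ((gg [2, 3, 4, 6] ++ [5]) ++ [0, 2, 3]).flatMap ex)
    (([0, 2, 3] ++ [0, 2, 3]).flatMap ex ++ (XCover.hw ++ (gg [2, 3, 4, 6] ++ [5]).flatMap ex)) = true := by
  decide +kernel

theorem five : ∃ a ∈ P1, a ^ 5 = 1 ∧ a ≠ 1 ∧ (∃ n ∈ (⊤ : Subgroup RuOrder.H), n * (S * S) = S * S * n ∧
      n * a * n⁻¹ = a ^ 2) ∧
    ∀ Q ≤ XR.E, S * S ∈ Q → (∀ q ∈ Q, a * q * a⁻¹ ∈ Q) → (∀ q ∈ Q, q = 1 ∨ q = S * S) ∨ Q = XR.E := by
  refine ⟨V [0, 2, 3], V_mem _, ?_, ?_, ⟨XCover.h * V (gg [2, 3, 4, 6] ++ [5]), mem_top _, ?_, ?_⟩, ?_⟩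
  · have h := eqw_sound chk_a5
    rw [V_append, V_append, V_append, V_append, V_nil] at h
    rw [← h]
    simp only [pow_succ, pow_zero, one_mul, mul_assoc]
  · intro h
    exact ne_of_eqw chk_a1 h
  · have h1 := z_comm _ (V_mem (gg [2, 3, 4, 6] ++ [5]))
    have h2 : XCover.h * (S * S) = S * S * XCover.h := XCover.hz_comm
    calc XCover.h * V (gg [2, 3, 4, 6] ++ [5]) * (S * S) = XCover.h * (V (gg [2, 3, 4, 6] ++ [5]) * (S * S)) := by
          group
      _ = XCover.h * (S * S) * V (gg [2, 3, 4, 6] ++ [5]) := by rw [h1]; group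
      _ = _ := by rw [h2]; group
  · have h := eqv_sound chk_n
    rw [wprod_append, wprod_append, wprod_append] at h
    change XCover.h * V ((gg [2, 3, 4, 6] ++ [5]) ++ [0, 2, 3]) = V ([0, 2, 3] ++ [0, 2, 3]) *
      (XCover.h * V (gg [2, 3, 4, 6] ++ [5])) at h
    rw [V_append (gg [2, 3, 4, 6] ++ [5]), V_append [0, 2, 3]] at h
    rw [mul_inv_eq_iff_eq_mul, mul_assoc, h, pow_two]
  · intro Q hQ hz ha
    by_cases h : ∀ q ∈ Q, q = 1 ∨ q = S * S
    · exact Or.inl h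
    · right
      push Not at h
      obtain ⟨q, hq, q1, qz⟩ := h
      obtain ⟨m, hm, rfl⟩ := exists_em q (hQ hq)
      have c0 : ∀ (b : Bool) {x : ℕ}, PackA.em x ∈ Q → PackA.em (bif b then x else 0) ∈ Q := by
        intro b x hx
        cases b
        · rw [cond_false, em_zero]
          exact one_mem Q
        · exact hx
      have st : ∀ x, PackA.em x ∈ Q → PackA.em (acw [0, 2, 3] x) ∈ Q := by
        intro x hx
        rw [← word_em (by decide)]
        exact ha _ hx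
      have i1 : PackA.em (ia m 1) ∈ Q := st _ hq
      have i2 : PackA.em (ia m 2) ∈ Q := st _ i1
      have i3 : PackA.em (ia m 3) ∈ Q := st _ i2
      have hz' : PackA.em 26 ∈ Q := by rw [em_z]; exact hz
      have hcb : ∀ c, PackA.em (cb m c) ∈ Q := by
        intro c
        unfold cb
        rw [em_xor, em_xor, em_xor, em_xor]
        exact mul_mem (c0 _ hz') (mul_mem (c0 _ hq) (mul_mem (c0 _ i1) (mul_mem (c0 _ i2) (c0 _ i3))))
      rcases chk_irr m hm with rfl | rfl | h1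
      · exact absurd em_zero q1
      · exact absurd em_z qz
      · refine le_antisymm hQ ?_
        rw [XR.E, closure_le]
        rintro x ⟨i, hi, rfl⟩
        obtain ⟨c, -, hc⟩ := h1 i hi
        have h2 := hcb c
        rw [hc] at h2
        interval_cases i <;> exact h2

/-! ### assembly -/

theorem card_P1 : ¬ 25 ∣ Nat.card P1 := by
  intro h
  have h1 : Nat.card P1 ∣ Nat.card (centralizer ({S * S} : Set RuOrder.H)) := card_dvd_of_le P1_le
  rw [XCover.card_cent] at h1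
  have h2 := h.trans h1
  omega

theorem mem_cent {p : RuOrder.H} (h : p * (S * S) = S * S * p) : p ∈ centralizer ({S * S} : Set RuOrder.H) :=
  mem_centralizer_singleton_iff.2 h

theorem com : ∀ p ∈ (⊤ : Subgroup RuOrder.H), ∀ q ∈ (⊤ : Subgroup RuOrder.H), p * (S * S) = S * S * p →
    q * (S * S) = S * S * q → p * q * p⁻¹ * q⁻¹ ∈ P1 := fun _ _ _ _ hp hq =>
  XF.XF.comm_le XfRes.xf (commutator_mem_commutator (mem_cent hp) (mem_cent hq))

theorem idx : ∀ p ∈ (⊤ : Subgroup RuOrder.H), ∀ q ∈ (⊤ : Subgroup RuOrder.H), p * (S * S) = S * S * p →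
    q * (S * S) = S * S * q → p ∉ P1 → q ∉ P1 → p * q ∈ P1 := by
  intro p _ q _ hp hq h1 h2
  have h3 := mem_cent hp
  have h4 := mem_cent hq
  rw [← XCover.M_eq, XCover.mem_M] at h3 h4
  have h5 := h3.resolve_left h1
  have h6 := h4.resolve_left h2
  have h7 := mul_mem (XCover.conj_h _ h5) h6
  have e : XCover.h * (XCover.h * p) * XCover.h * (XCover.h * q) = p * q := by
    calc XCover.h * (XCover.h * p) * XCover.h * (XCover.h * q) =
        (XCover.h * XCover.h) * p * (XCover.h * XCover.h) * q := by group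
      _ = p * q := by rw [XCover.hh]; group
  rwa [e] at h7

theorem BDef_eq : Cfsg.Agent.OddHalf.D8.RuFam.BDef.B = PackA.B := rfl

/-- **packet P** -/
theorem loc : Cfsg.Agent.OddHalf.D8.RuFam.Loc (⊤ : Subgroup RuOrder.H) (S * S) P1 XR.R
    Cfsg.Agent.OddHalf.D8.RuFam.BDef.B XR.E where
  zK := mem_top _
  zz := zz
  z1 := z1
  PK := le_top
  Pz := fun p hp => z_comm p hp
  perf := XCover.P1_perf
  com := com
  idx := idx
  card := card_P1
  RP := XR.R_le
  R2 := R_two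
  Rn := R_nor
  Rmax := R_max
  RR := PackC.RR
  zE := by rw [← em_z]; exact em_mem _
  EE := E_sq
  RE := RE
  ZR := ZR
  BR := B_le_R
  cenE := fun k _ => ⟨fun hk e he => B_comm k hk e he, fun h => cen_E h⟩
  BP := BP
  BB := fun b hb c hc => BB b hb c hc
  BE := BE
  RRP := RRP
  hom4 := hom4
  dual := dual
  five := five

end Cfsg.Agent.KFacts.Ru.PackD

end
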